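import Cfsg.Agent.Lib.Spor.CoTypeThree.Quot
import Cfsg.Agent.Lib.Spor.CoTypeBridge
import Cfsg.Agent.Lib.Spor.SuzY.Main

/-!
Groups of Conway type: the centraliser of an element of order three rotating a plane is quasisimple when its
quotient by that element is simple.
-/

set_option autoImplicit false
set_option maxRecDepth 100000
set_option linter.unusedSectionVars false

namespace Cfsg.Agent.Spor.CoT.Three

open scoped commutatorElement

universe u

variable {G : Type u} [Group G] [Finite G] {z : G} {Q : Subgroup G} (K : Ctx z Q)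

theorem Ctx.suz_hyp : SuzT.Hyp K.zb (K.RH.map K.H.subtype) := by
  obtain ⟨e⟩ := K.omega_equiv
  exact SuzT.hyp_of_statement K.zb K.zb_ord K.RH K.gfit K.extraspecial_RH (by rw [K.card_RH]; norm_num) e K.nwc

/-- the vectors of the orthogonal plane -/
def pl2 : Set V := {0, a2, b2, a2 + b2}

theorem pl2_add : ∀ a ∈ pl2, ∀ b ∈ pl2, a + b ∈ pl2 := by
  intro a ha b hb
  have := four_add a2 b2
  simp only [Finset.mem_insert, Finset.mem_singleton] at this
  simp only [pl2, Set.mem_insert_iff, Set.mem_singleton_iff] at ha hb ⊢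
  exact this a ha b hb

theorem g1_moves (v : V) : g1 • v + v ∈ pl2 := by
  obtain ⟨u, hu, ha, hb⟩ := decomp pair1 v
  obtain ⟨p, q, hv⟩ : ∃ p q : ZMod 2, v = u + (p • a2 + q • b2) := ⟨_, _, hu⟩
  subst hv
  simp only [smul_add', smul_smul', rot1.fst, rot1.snd, rot1.fix u ha hb]
  rcases bit_or p with rfl | rfl <;> rcases bit_or q with rfl | rfl <;>
    simp only [pl2, zero_smul, one_smul, zero_add, add_zero, Set.mem_insert_iff, Set.mem_singleton_iff]
  · exact Or.inl (ZModModule.add_self u)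
  · refine Or.inr (Or.inl ?_)
    rw [show u + (a2 + b2) + (u + b2) = (u + u) + (b2 + b2) + a2 by abel, ZModModule.add_self, ZModModule.add_self,
      zero_add, zero_add]
  · refine Or.inr (Or.inr (Or.inr ?_))
    rw [show u + b2 + (u + a2) = (u + u) + (a2 + b2) by abel, ZModModule.add_self, zero_add]
  · refine Or.inr (Or.inr (Or.inl ?_))
    rw [show u + (b2 + (a2 + b2)) + (u + (a2 + b2)) = (u + u) + (a2 + a2) + ((b2 + b2) + b2) by abel]
    simp only [ZModModule.add_self, zero_add]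

theorem a2_ne : a2 ≠ 0 ∧ b2 ≠ 0 ∧ a2 ≠ b2 ∧ g1 • a2 ≠ a2 := by
  have h : a2 ≠ 0 ∧ b2 ≠ 0 ∧ a2 ≠ b2 := by decide +kernel
  exact ⟨h.1, h.2.1, h.2.2, by rw [rot1.fst]; exact Ne.symm h.2.2⟩

theorem g0_g1 : Commute g1 g0 :=
  comm_of_fix (rot1.fix va (by decide +kernel) (by decide +kernel)) (rot1.fix vb (by decide +kernel) (by decide +kernel))

theorem exists_rot2 : ∃ T : G, ∃ hT : Commute T z, T ^ 3 = 1 ∧ Commute T K.y ∧ K.F.π (cC hT) = g1 :=
  K.exists_liftY3 g0_g1 rot1.cube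

theorem L_eq : K.L = Subgroup.centralizer ({K.y} : Set G) := by
  ext g
  rw [Subgroup.mem_centralizer_singleton_iff]
  exact ⟨fun h => of_mem_cent K h, fun h => commute_zp K h⟩

theorem Ctx.T_mem_comm {T : G} (hTz : Commute T z) (T3 : T ^ 3 = 1) (hTy : Commute T K.y)
    (hπ : K.F.π (cC hTz) = g1) : T ∈ ⁅K.L, K.L⁆ := by
  obtain ⟨x1, x2, x3, x4⟩ := xx_acts
  have hc : Commute xx g0 := comm_of_fix x1 x2
  have hct : xx * g1 * xx⁻¹ = g1⁻¹ := by
    have := rot1.conj xx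
    rw [x3, x4] at this
    exact this.unique rot1.inv
  obtain ⟨d, hd, hdy, he⟩ := K.exists_liftY hc
  have hd' : Commute (d * T * d⁻¹) z := (hd.mul_left hTz).mul_left hd.inv_left
  have hdy' : Commute (d * T * d⁻¹) K.y := (hdy.mul_left hTy).mul_left hdy.inv_left
  have hπ' : K.F.π (cC hd') = K.F.π (cC hTz.inv_left) := by
    rw [pi_conj K.F hd hTz, he, hπ, hct, pi_inv K.F hTz, hπ]
  obtain ⟨k, hk, e, hkv⟩ := conj_lift' K.F K.h hd' hTz.inv_left (by rw [conj_pow, T3]; group)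
    (by rw [inv_pow, T3, inv_one]) hπ'
  have hky : Commute k K.y := by
    have hq : (d * T * d⁻¹)⁻¹ * T⁻¹ ∈ Q := (K.F.π_ker ((cC hd')⁻¹ * cC hTz.inv_left)).1 (by
      rw [map_mul, map_inv, hπ', inv_mul_cancel])
    have hqy := (K.comm_iff hq).1 (hdy'.inv_left.mul_left hTy.inv_left)
    refine (K.comm_iff hk).2 ?_
    rw [hkv]
    exact comm_inF (K.pi_comm hd' hdy') (comm_inF (K.pi_comm hd' hdy') hqy)
  have h := Subgroup.commutator_mem_commutator (commute_zp K (hky.mul_left hdy) : k * d ∈ K.L)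
    (commute_zp K hTy : T ∈ K.L)
  rw [commutatorElement_def, show k * d * T * (k * d)⁻¹ * T⁻¹ = k * (d * T * d⁻¹) * k⁻¹ * T⁻¹ by group, e] at h
  rwa [show T⁻¹ * T⁻¹ = T by
    rw [← mul_inv_rev]; exact inv_eq_of_mul_eq_one_right (by rw [← T3]; simp [pow_succ, mul_assoc])] at h

theorem Ctx.y_to_T {T : G} (hTz : Commute T z) (T3 : T ^ 3 = 1) (hπ : K.F.π (cC hTz) = g1) :
    ∃ h : G, h * K.y * h⁻¹ = T := by
  obtain ⟨c, hc1, hc2⟩ := exists_move pair1
  have hcg : c * g0 * c⁻¹ = g1 := by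
    have := rot0.conj c
    rw [hc1, hc2] at this
    exact this.unique rot1
  obtain ⟨d, hd⟩ := K.F.π_surj c
  have hdz : Commute (d : G) z := mem_C.1 d.2
  have hd' : Commute ((d : G) * K.y * (d : G)⁻¹) z := (hdz.mul_left K.hyz).mul_left hdz.inv_left
  obtain ⟨k, -, e⟩ := conj_lift K.F K.h hd' hTz (by rw [conj_pow, K.y3]; group) T3 (by
    rw [pi_conj K.F hdz K.hyz, K.piy, show K.F.π (cC hdz) = c from hd, hcg, hπ])
  exact ⟨k * d, by rw [← e]; group⟩

/-- the image of an element of the orthogonal rotation is a commutator in its centraliser -/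
theorem Ctx.pr_T {T : G} (hTz : Commute T z) (T3 : T ^ 3 = 1) (hTy : Commute T K.y) (hπ : K.F.π (cC hTz) = g1) :
    K.pr ⟨T, commute_zp K hTy⟩ ∈ ⁅Subgroup.centralizer ({K.pr ⟨T, commute_zp K hTy⟩} : Set (K.L ⧸ K.P)),
      Subgroup.centralizer ({K.pr ⟨T, commute_zp K hTy⟩} : Set (K.L ⧸ K.P))⁆ := by
  set Tb := K.pr ⟨T, commute_zp K hTy⟩ with hTb
  have hTb3 : Tb ^ 3 = 1 := by
    rw [hTb, ← map_pow, show (⟨T, commute_zp K hTy⟩ : K.L) ^ 3 = 1 from Subtype.ext T3, map_one]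
  have hTb1 : Tb ≠ 1 := by
    intro e
    obtain ⟨i, -, hi⟩ := K.exists_nat (Subgroup.mem_subgroupOf.1 ((QuotientGroup.eq_one_iff _).1 e))
    change T = K.y ^ i at hi
    have h1 : g1 = g0 ^ i := by
      rw [← hπ, pi_congr K.F hTz (K.hyz.pow_left i) hi, pi_pow K.F K.hyz, K.piy]
    refine a2_ne.2.2.2 ?_
    rw [h1]
    clear hi h1
    induction i with
    | zero => rw [pow_zero, one_smul]
    | succ n ih => rw [pow_succ, mul_smul, rot0.fix a2 a2_inF.1.1 a2_inF.1.2, ih]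
  have hTbz : Commute Tb K.zb := by
    show Tb * K.zb = K.zb * Tb
    rw [hTb, Ctx.zb, ← map_mul, ← map_mul]
    exact congrArg K.pr (Subtype.ext hTz.eq)
  let R2 : Subgroup G := K.Pre pl2 (Set.mem_insert _ _) pl2_add
  have hR2 : Nat.card R2 = 8 := by
    refine (K.card_Pre pl2 _ _ ).trans ?_
    have h4 := four_card a2_ne.1 a2_ne.2.1 a2_ne.2.2.1
    rw [← Set.ncard_coe_finset] at h4
    simpa [pl2] using congrArg (2 * ·) h4
  let D : Subgroup (K.L ⧸ K.P) := (R2.subgroupOf K.L).map K.pr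
  have hc : Nat.card D ≤ 8 := by
    refine (Nat.le_of_dvd Nat.card_pos (Subgroup.card_map_dvd _ _)).trans ?_
    rw [← hR2]
    exact Nat.card_le_card_of_injective (fun a : R2.subgroupOf K.L => (⟨(a : G), a.2⟩ : R2))
      fun a b e => Subtype.ext (Subtype.ext (congrArg (fun x : R2 => (x : G)) e))
  have hD : ∀ a ∈ K.RH.map K.H.subtype, Tb * a * Tb⁻¹ * a⁻¹ ∈ D := by
    intro a ha
    obtain ⟨q, hq, hqy, rfl⟩ := K.RH_map.1 ha
    have hn : T * q * T⁻¹ * q⁻¹ ∈ Q := mul_mem (K.h.norm T hTz q hq) (inv_mem hq)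
    refine ⟨⟨T * q * T⁻¹ * q⁻¹, mul_mem (mul_mem (mul_mem (commute_zp K hTy) (commute_zp K hqy))
      (inv_mem (commute_zp K hTy))) (inv_mem (commute_zp K hqy))⟩, ⟨hn, ?_⟩, ?_⟩
    · have e : K.F.vec (T * q * T⁻¹) = g1 • K.F.vec q := by rw [← hπ]; exact K.F.vec_conj (cC hTz) q hq
      show K.F.vec (T * q * T⁻¹ * q⁻¹) ∈ pl2
      rw [K.F.vec_mul _ (K.h.norm T hTz q hq) _ (inv_mem hq), vec_inv K.F K.h hq, e]
      exact g1_moves _
    · simp only [hTb, ← map_mul, ← map_inv]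
      exact congrArg K.pr (Subtype.ext rfl)
  obtain ⟨K', hK'⟩ := SuzT.Three.exists_ctx K.suz_hyp hTbz hTb3 hTb1 D hD hc
  haveI : Fact (Nat.Prime 3) := ⟨Nat.prime_three⟩
  haveI : Fintype (GaloisField 3 2) := Fintype.ofFinite _
  obtain ⟨⟨hp, -⟩, -, -⟩ := K'.main (GaloisField 3 2) (by
    rw [← Nat.card_eq_fintype_card, GaloisField.card 3 2 two_ne_zero]; norm_num)
  have hmem : (⟨Tb, Subgroup.mem_centralizer_iff.2 fun a ha => by
      obtain ⟨i, rfl⟩ := Subgroup.mem_zpowers_iff.1 (hK' ▸ ha)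
      exact ((Commute.refl Tb).zpow_left i).eq⟩ : K'.L) ∈ _root_.commutator K'.L := by
    rw [(Group.isPerfect_def (G := K'.L)).1 hp]; trivial
  have h1 : Tb ∈ (_root_.commutator K'.L).map K'.L.subtype := ⟨_, hmem, rfl⟩
  rw [_root_.commutator_def, Subgroup.map_commutator, ← MonoidHom.range_eq_map, Subgroup.range_subtype,
    SuzT.Three.L_eq, hK'] at h1
  exact h1

theorem Ctx.y_mem_comm : K.y ∈ ⁅K.L, K.L⁆ := by
  obtain ⟨T, hTz, T3, hTy, hπ⟩ := exists_rot2 K
  by_contra hy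
  set L1 := ⁅K.L, K.L⁆ with hL1
  have hyp : ∀ {n : ℕ}, K.y ^ n ∈ L1 → K.y ^ n = 1 := fun {n} hn => by
    have hlt := Nat.mod_lt n (show 0 < 3 by norm_num)
    have e : K.y ^ n = K.y ^ (n % 3) := by
      conv_lhs => rw [← Nat.div_add_mod n 3, pow_add, pow_mul, K.y3, one_pow, one_mul]
    rw [e] at hn ⊢
    interval_cases (n % 3)
    · exact pow_zero _
    · exact absurd (pow_one K.y ▸ hn) hy
    · exfalso
      have := pow_mem hn 2
      rw [← pow_mul, show 2 * 2 = 3 + 1 by norm_num, pow_succ, K.y3, one_mul] at this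
      exact hy this
  have hTL : T ∈ K.L := commute_zp K hTy
  have hT1 : T ∈ L1 := K.T_mem_comm hTz T3 hTy hπ
  have hC : Subgroup.centralizer ({K.pr ⟨T, hTL⟩} : Set (K.L ⧸ K.P)) ≤
      (Subgroup.centralizer ({(⟨T, hTL⟩ : K.L)} : Set K.L)).map K.pr := by
    intro x hx
    obtain ⟨⟨g, hg⟩, rfl⟩ := QuotientGroup.mk'_surjective K.P x
    refine ⟨⟨g, hg⟩, Subgroup.mem_centralizer_singleton_iff.2 (Subtype.ext ?_), rfl⟩
    have e := Subgroup.mem_centralizer_singleton_iff.1 hx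
    rw [← map_mul, ← map_mul] at e
    obtain ⟨n, -, hn⟩ := K.exists_nat (Subgroup.mem_subgroupOf.1 (QuotientGroup.eq.1 e))
    change (g * T)⁻¹ * (T * g) = K.y ^ n at hn
    have h1 : K.y ^ n ∈ L1 := by
      rw [← hn, show (g * T)⁻¹ * (T * g) = ⁅T⁻¹, g⁻¹⁆ by rw [commutatorElement_def]; group]
      exact Subgroup.commutator_mem_commutator (inv_mem hTL) (inv_mem hg)
    show g * T = T * g
    rw [hyp h1] at hn
    exact inv_mul_eq_one.1 hn
  have h2 := Subgroup.commutator_mono hC hC (K.pr_T hTz T3 hTy hπ)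
  rw [← Subgroup.map_commutator] at h2
  obtain ⟨w, hw, hwT⟩ := h2
  obtain ⟨n, -, hn⟩ := K.exists_nat (Subgroup.mem_subgroupOf.1 (QuotientGroup.eq.1 hwT))
  change (w : G)⁻¹ * T = K.y ^ n at hn
  have hwG : (w : G) ∈ ⁅Subgroup.centralizer ({T} : Set G) ⊓ K.L, Subgroup.centralizer ({T} : Set G) ⊓ K.L⁆ := by
    have := Subgroup.mem_map_of_mem K.L.subtype hw
    rw [Subgroup.map_commutator] at this
    refine Subgroup.commutator_mono ?_ ?_ this <;>
    · rintro _ ⟨a, ha, rfl⟩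
      exact ⟨Subgroup.mem_centralizer_singleton_iff.2
        (congrArg Subtype.val (Subgroup.mem_centralizer_singleton_iff.1 ha)), a.2⟩
  have hwT' : (w : G) = T := by
    have h3 : K.y ^ n ∈ L1 := by
      rw [← hn]
      exact mul_mem (inv_mem (Subgroup.commutator_mono inf_le_right inf_le_right hwG)) hT1
    rw [hyp h3] at hn
    exact inv_mul_eq_one.1 hn
  have hTc : T ∈ ⁅Subgroup.centralizer ({T} : Set G), Subgroup.centralizer ({T} : Set G)⁆ := by
    rw [hwT'] at hwG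
    exact Subgroup.commutator_mono inf_le_left inf_le_left hwG
  obtain ⟨h, he⟩ := K.y_to_T hTz T3 hπ
  have := SuzT.Three.conj_commutator_cent he hTc
  rw [← L_eq] at this
  exact hy this

theorem Ctx.quasisimple (hsim : IsSimpleGroup (K.L ⧸ K.P)) (hnc : ¬ ∀ a b : K.L ⧸ K.P, a * b = b * a) :
    Cfsg.IsQuasisimple K.L := by
  haveI := hsim
  have hy : K.P ≤ _root_.commutator K.L := by
    intro p hp
    obtain ⟨i, -, hi⟩ := K.exists_nat (Subgroup.mem_subgroupOf.1 hp)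
    have h1 : ⁅K.L, K.L⁆ = (_root_.commutator K.L).map K.L.subtype := by
      rw [_root_.commutator_def, Subgroup.map_commutator, ← MonoidHom.range_eq_map, Subgroup.range_subtype]
    have h2 : (p : G) ∈ (_root_.commutator K.L).map K.L.subtype := by
      rw [hi, ← h1]; exact pow_mem K.y_mem_comm i
    obtain ⟨q, hq, e⟩ := h2
    rwa [← Subtype.ext (show (q : G) = p from e)]
  refine ⟨(Group.isPerfect_def (G := K.L)).2 (eq_top_iff.2 fun x _ => ?_), ?_⟩
  · haveI hn : (_root_.commutator (K.L ⧸ K.P)).Normal := inferInstance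
    rcases hn.eq_bot_or_eq_top with e | e
    · exfalso
      refine hnc fun a b => ?_
      have := Subgroup.commutator_mem_commutator (Subgroup.mem_top a) (Subgroup.mem_top b)
      rw [← _root_.commutator_def, e, Subgroup.mem_bot] at this
      exact commutatorElement_eq_one_iff_mul_comm.1 this
    · have hx : K.pr x ∈ (_root_.commutator K.L).map K.pr := by
        rw [_root_.commutator_def, Subgroup.map_commutator,
          Subgroup.map_top_of_surjective _ (QuotientGroup.mk'_surjective K.P), ← _root_.commutator_def, e]; trivial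
      obtain ⟨q, hq, hqx⟩ := hx
      have h1 : q⁻¹ * x ∈ K.P := QuotientGroup.eq.1 hqx
      simpa using mul_mem hq (hy h1)
  · have hc : Subgroup.center K.L = K.P := by
      refine le_antisymm (fun x hx => ?_) fun p hp => Subgroup.mem_center_iff.2 fun g => ?_
      · haveI hn : ((Subgroup.center K.L).map K.pr).Normal :=
          Subgroup.Normal.map inferInstance _ (QuotientGroup.mk'_surjective K.P)
        rcases hn.eq_bot_or_eq_top with e | e
        · have h1 : K.pr x ∈ (Subgroup.center K.L).map K.pr := ⟨x, hx, rfl⟩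
          rw [e, Subgroup.mem_bot] at h1
          exact (QuotientGroup.eq_one_iff x).1 h1
        · exfalso
          refine hnc fun a b => ?_
          obtain ⟨a', ha', rfl⟩ := (show a ∈ (Subgroup.center K.L).map K.pr by rw [e]; trivial)
          obtain ⟨b', rfl⟩ := QuotientGroup.mk'_surjective K.P b
          rw [← map_mul, ← map_mul, Subgroup.mem_center_iff.1 ha' b']
      · exact Subtype.ext ((Subgroup.mem_centralizer_iff.1 g.2) _ (Subgroup.mem_subgroupOf.1 hp)).symm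
    exact ((QuotientGroup.quotientMulEquivOfEq hc).isSimpleGroup_congr).mpr hsim

theorem exists_ctx (h : Hyp z Q) {y : G} (hyz : Commute y z) (y3 : y ^ 3 = 1) (y1 : y ≠ 1) (D : Subgroup G)
    (hD : ∀ a ∈ Q, y * a * y⁻¹ * a⁻¹ ∈ D) (hc : Nat.card D ≤ 8) :
    ∃ K : Ctx z Q, K.y = y := by
  classical
  obtain ⟨F⟩ := exists_frame h
  set g := F.π (cC hyz) with hg
  have g1' : g ≠ 1 := fun e => y1 (Q_cube F h ((F.π_ker _).1 e) y3)
  have h8 : (Finset.univ.image fun v : V => g • v + v).card ≤ 8 := by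
    haveI : Fintype D := Fintype.ofFinite D
    have hsub : (Finset.univ.image fun v : V => g • v + v) ⊆
        (Finset.univ (α := D)).image (fun d : D => F.vec (d : G)) := by
      intro w hw
      obtain ⟨v, -, rfl⟩ := Finset.mem_image.1 hw
      obtain ⟨a, ha, rfl⟩ := F.vec_surj v
      refine Finset.mem_image.2 ⟨⟨_, hD a ha⟩, Finset.mem_univ _, ?_⟩
      show F.vec (y * a * y⁻¹ * a⁻¹) = _
      rw [F.vec_mul _ (h.norm y hyz a ha) _ (inv_mem ha), vec_inv F h ha, hg]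
      exact congrArg (· + F.vec a) (F.vec_conj (cC hyz) a ha)
    refine (Finset.card_le_card hsub).trans (Finset.card_image_le.trans ?_)
    rw [Finset.card_univ, ← Nat.card_eq_fintype_card]
    exact hc
  obtain ⟨a, b, hr⟩ := rot_of (pi_cube F hyz y3) g1' h8
  obtain ⟨c, hc1, hc2⟩ := exists_move hr.pair
  have hcg : c * g0 * c⁻¹ = g := by
    have := rot0.conj c
    rw [hc1, hc2] at this
    exact this.unique hr
  refine ⟨⟨h, twist F c⁻¹, y, hyz, y3, ?_⟩, rfl⟩
  show c⁻¹ * F.π (cC hyz) * c⁻¹⁻¹ = g0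
  rw [← hg, ← hcg]; group

theorem of_statement {G : Type u} [Group G] [Finite G] (z : G) (hz : orderOf z = 2)
    (Q : Subgroup (Subgroup.centralizer ({z} : Set G))) [Q.Normal]
    (hF : Cfsg.generalizedFittingSubgroup (Subgroup.centralizer ({z} : Set G)) = Q)
    (hQ : Cfsg.IsExtraspecial 2 Q) (hcard : Nat.card Q = 2 ^ 9)
    (e : (Subgroup.centralizer ({z} : Set G)) ⧸ Q ≃* Cfsg.Omega (ZMod 2) (Cfsg.quadFormPlus 4 (ZMod 2)))
    (hnwc : ∃ g : G, (∃ hq : g * z * g⁻¹ ∈ Subgroup.centralizer ({z} : Set G),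
      (⟨g * z * g⁻¹, hq⟩ : Subgroup.centralizer ({z} : Set G)) ∈ Q) ∧ g * z * g⁻¹ ≠ z)
    (Y : Subgroup (Subgroup.centralizer ({z} : Set G))) (hY : Nat.card Y = 3) (hQY : Nat.card ↥⁅Q, Y⁆ = 8) :
    ∃ K : Ctx z (Q.map (Subgroup.centralizer ({z} : Set G)).subtype),
      Y.map (Subgroup.centralizer ({z} : Set G)).subtype = Subgroup.zpowers K.y := by
  have h := hyp_of_statement z hz Q hF hQ hcard e hnwc
  haveI : Fact (Nat.Prime 3) := ⟨Nat.prime_three⟩
  obtain ⟨y0, hy0⟩ := exists_prime_orderOf_dvd_card' (G := Y) 3 (by rw [hY])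
  set y : G := ((y0 : Subgroup.centralizer ({z} : Set G)) : G) with hy
  have hyo : orderOf y = 3 := by rw [hy, Subgroup.orderOf_coe, Subgroup.orderOf_coe, hy0]
  have hyz : Commute y z := mem_C.1 (y0 : Subgroup.centralizer ({z} : Set G)).2
  obtain ⟨K, hK⟩ := exists_ctx h hyz (hyo ▸ pow_orderOf_eq_one y) (fun e => by rw [e, orderOf_one] at hyo; omega)
    (⁅Q, Y⁆.map (Subgroup.centralizer ({z} : Set G)).subtype) (fun a ha => by
      obtain ⟨q, hq, rfl⟩ := ha
      refine ⟨⁅(y0 : Subgroup.centralizer ({z} : Set G)), q⁆, ?_, rfl⟩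
      rw [Subgroup.commutator_comm]
      exact Subgroup.commutator_mem_commutator y0.2 hq)
    (by rw [Subgroup.card_map_of_injective (Subgroup.subtype_injective _), hQY])
  refine ⟨K, ?_⟩
  rw [hK]
  have hyY : y ∈ Y.map (Subgroup.centralizer ({z} : Set G)).subtype := ⟨_, y0.2, rfl⟩
  refine (Subgroup.eq_of_le_of_card_ge (Subgroup.zpowers_le.2 hyY) ?_).symm
  rw [Subgroup.card_map_of_injective (Subgroup.subtype_injective _), hY, Nat.card_zpowers, hyo]

/-- the hypothesis characterising the Suzuki group, for the quotient -/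
theorem Ctx.suzuki_setting : ∃ (N : Subgroup (Subgroup.centralizer ({K.zb} : Set (K.L ⧸ K.P)))) (_ : N.Normal),
    Cfsg.generalizedFittingSubgroup (Subgroup.centralizer ({K.zb} : Set (K.L ⧸ K.P))) = N ∧
    Cfsg.IsExtraspecial 2 N ∧ Nat.card N = 2 ^ 7 ∧
    Nonempty ((Subgroup.centralizer ({K.zb} : Set (K.L ⧸ K.P))) ⧸ N ≃*
      Cfsg.Omega (ZMod 2) (Cfsg.quadFormMinus 2 (ZMod 2) 1 1)) ∧
    ∃ g : K.L ⧸ K.P, (∃ hq : g * K.zb * g⁻¹ ∈ Subgroup.centralizer ({K.zb} : Set (K.L ⧸ K.P)),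
      (⟨g * K.zb * g⁻¹, hq⟩ : Subgroup.centralizer ({K.zb} : Set (K.L ⧸ K.P))) ∈ N) ∧ g * K.zb * g⁻¹ ≠ K.zb :=
  ⟨K.RH, K.RH_normal, K.gfit, K.extraspecial_RH, by rw [K.card_RH]; norm_num, K.omega_equiv, K.nwc⟩

end Cfsg.Agent.Spor.CoT.Three
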