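import Cfsg.Agent.Lib.Spor.CoTypeThree.Rot
import Cfsg.Agent.Lib.Spor.SuzTypeGroup
import Mathlib.Algebra.Group.Action.Prod

/-!
The centraliser of a rotation of an anisotropic plane in the commutator subgroup of the isometry group of a plus
form in dimension eight over two elements, and its action on the orthogonal space of minus type.
-/

set_option autoImplicit false
set_option maxRecDepth 100000
set_option linter.unusedSectionVars false

namespace Cfsg.Agent.Spor.CoT.Three

open Chk Cfsg.Agent.Classical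

/-- orthogonal to the plane -/
def InF (v : V) : Prop := pol v va = 0 ∧ pol v vb = 0

theorem fixed_iff (v : V) : g0 • v = v ↔ InF v := by
  refine ⟨fun h => ?_, fun h => rot0.fix v h.1 h.2⟩
  have e1 : pol v va = pol v vb := by
    conv_lhs => rw [← smul_pol g0, h, rot0.fst]
  have e2 : pol v vb = pol v va + pol v vb := by
    conv_lhs => rw [← smul_pol g0, h, rot0.snd, pol_add_right]
  have e3 : pol v va = 0 := right_eq_add.1 e2
  exact ⟨e3, e1 ▸ e3⟩

/-- the centraliser of the rotation -/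
noncomputable def C0 : Subgroup Ga := Subgroup.centralizer ({g0} : Set Ga)

theorem mem_C0 {c : Ga} : c ∈ C0 ↔ Commute c g0 := Subgroup.mem_centralizer_singleton_iff

theorem comm_inF {c : Ga} (hc : Commute c g0) {v : V} (hv : InF v) : InF (c • v) := by
  rw [← fixed_iff] at hv ⊢
  rw [← mul_smul, ← hc.eq, mul_smul, hv]

theorem comm_of_fix {c : Ga} (h1 : c • va = va) (h2 : c • vb = vb) : Commute c g0 := by
  have := rot0.conj c
  rw [h1, h2] at this
  exact mul_inv_eq_iff_eq_mul.1 (this.unique rot0)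

theorem pow_vals : g0 ^ 0 • va = va ∧ g0 ^ 1 • va = vb ∧ g0 ^ 2 • va = va + vb ∧
    g0 ^ 0 • vb = vb ∧ g0 ^ 1 • vb = va + vb ∧ g0 ^ 2 • vb = va := by
  have h3 : g0 • (va + vb) = va := by
    rw [smul_add', rot0.fst, rot0.snd, add_comm va vb, ← add_assoc, ZModModule.add_self, zero_add]
  simp only [pow_succ, pow_zero, one_mul, mul_smul, one_smul, rot0.fst, rot0.snd, h3, and_self]

theorem comm_move {c : Ga} (hc : Commute c g0) : ∃ i < 3, c • va = g0 ^ i • va ∧ c • vb = g0 ^ i • vb := by
  have hb : c • vb = g0 • c • va := by rw [← rot0.fst, ← mul_smul, hc.eq, mul_smul]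
  suffices h : ∃ i < 3, c • va = g0 ^ i • va by
    obtain ⟨i, hi, e⟩ := h
    refine ⟨i, hi, e, ?_⟩
    rw [hb, e, ← mul_smul, ← pow_succ', pow_succ, mul_smul, rot0.fst]
  -- the image of the first vector lies in the moved plane
  have hu : g0 • vb + vb = va := by rw [rot0.snd, add_assoc, ZModModule.add_self, add_zero]
  have e : c • va = g0 • (c • vb) + c • vb := by
    conv_lhs => rw [← hu]
    rw [smul_add', ← mul_smul, hc.eq, mul_smul]
  obtain ⟨u, huv, ha, hb'⟩ := decomp pair0 (c • vb)
  obtain ⟨p0, p1, p2, -⟩ := pow_vals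
  obtain ⟨p, q, hpq⟩ : ∃ p q : ZMod 2, c • vb = u + (p • va + q • vb) := ⟨_, _, huv⟩
  have hI : c • va = p • (va + vb) + q • va := by
    rw [e, hpq]
    simp only [smul_add', smul_smul', rot0.fst, rot0.snd, rot0.fix u ha hb', smul_add]
    calc u + (p • vb + (q • va + q • vb)) + (u + (p • va + q • vb))
        = p • va + p • vb + q • va + (u + u) + (q • vb + q • vb) := by abel
      _ = _ := by rw [ZModModule.add_self, ZModModule.add_self, add_zero, add_zero]
  have h0 : c • va ≠ 0 := fun h => by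
    rw [smul_eq_iff_eq_inv_smul, smul_zero'] at h
    have := pair0.1
    rw [h, qm_zero] at this
    exact zero_ne_one this
  have hbit : ∀ b : ZMod 2, b = 0 ∨ b = 1 := by decide
  rcases hbit p with a | a <;> rcases hbit q with b | b <;>
    rw [a, b] at hI <;> simp only [zero_smul, one_smul, zero_add, add_zero] at hI
  · exact absurd hI h0
  · exact ⟨0, by norm_num, by rw [p0, hI]⟩
  · exact ⟨2, by norm_num, by rw [p2, hI]⟩
  · refine ⟨1, by norm_num, ?_⟩
    rw [p1, hI, add_comm va vb, add_assoc, ZModModule.add_self, add_zero]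

/-! ### the stabiliser of the pair -/

/-- pairs on codes -/
def isPair (a b : ℕ) : Bool := Nat.beq (qc a) 1 && Nat.beq (qc b) 1 && Nat.beq (pc a b) 1

theorem card_pairs :
    (Finset.range 256).sum (fun a => ((Finset.range 256).filter fun b => isPair a b).card) = 6720 := by
  decide +kernel

theorem pair_enc {a b : V} : Pair a b ↔ isPair (enc a) (enc b) = true := by
  have key : ∀ n : ℕ, n < 2 → ((n : ZMod 2) = 1 ↔ Nat.beq n 1 = true) := by
    intro n hn
    interval_cases n <;> simp
  rw [Pair, qm_enc, qm_enc, pol_enc, isPair, Bool.and_eq_true, Bool.and_eq_true, key _ (qc_lt _), key _ (qc_lt _),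
    key (pc (enc a) (enc b)) (Nat.mod_lt _ (by norm_num)), and_assoc]

/-- the stabiliser of the pair -/
noncomputable abbrev Stb : Subgroup Ga := MulAction.stabilizer Ga (va, vb)

theorem mem_Stb {c : Ga} : c ∈ Stb ↔ c • va = va ∧ c • vb = vb :=
  MulAction.mem_stabilizer_iff.trans Prod.ext_iff

theorem card_Stb : Nat.card Stb = 25920 := by
  classical
  have horb : MulAction.orbit Ga (va, vb) = {p : V × V | Pair p.1 p.2} := by
    ext p
    refine ⟨?_, fun h => ?_⟩
    · rintro ⟨c, rfl⟩; exact pair0.smul c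
    · obtain ⟨c, h1, h2⟩ := exists_move h
      exact ⟨c, Prod.ext h1 h2⟩
  have hn : ({p : V × V | Pair p.1 p.2}).ncard = 6720 := by
    rw [← card_pairs, ← Finset.card_sigma, ← Set.ncard_coe_finset]
    refine Set.ncard_congr (fun p _ => (⟨enc p.1, enc p.2⟩ : Σ _ : ℕ, ℕ)) (fun p hp => ?_) (fun p q _ _ e => ?_)
      fun q hq => ?_
    · simp only [Finset.coe_sigma, Set.mem_sigma_iff, Finset.mem_coe, Finset.mem_filter, Finset.mem_range]
      exact ⟨enc_lt _, enc_lt _, pair_enc.1 hp⟩
    · simp only [Sigma.mk.injEq, heq_eq_eq] at e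
      exact Prod.ext (enc_injective e.1) (enc_injective e.2)
    · simp only [Finset.coe_sigma, Set.mem_sigma_iff, Finset.mem_coe, Finset.mem_filter, Finset.mem_range] at hq
      refine ⟨(CoT.vec q.1, CoT.vec q.2), pair_enc.2 ?_, ?_⟩
      · rw [enc_vec _ hq.1, enc_vec _ hq.2.1]; exact hq.2.2
      · show (⟨_, _⟩ : Σ _ : ℕ, ℕ) = q
        rw [enc_vec _ hq.1, enc_vec _ hq.2.1]
  have h := MulAction.index_stabilizer Ga (va, vb)
  rw [horb, hn] at h
  have hc := Subgroup.card_mul_index Stb
  rw [h, card_Ga] at hc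
  omega

/-! ### the orthogonal space -/

/-- the embedding of the six dimensional space -/
def emb (v : SuzT.V) : V :=
  v (.inl (.inl 0)) • CoT.vec 1 + v (.inl (.inl 1)) • CoT.vec 2 + v (.inl (.inr 0)) • CoT.vec 16 +
    v (.inl (.inr 1)) • CoT.vec 32 + v (.inr 0) • a2 + v (.inr 1) • b2

/-- the projection -/
def proj (w : V) : SuzT.V
  | .inl (.inl i) => w (.inl (Fin.castLE (by norm_num) i))
  | .inl (.inr i) => w (.inr (Fin.castLE (by norm_num) i))
  | .inr 0 => w (.inl 2)
  | .inr 1 => w (.inr 2)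

theorem qm_emb : ∀ v : SuzT.V, qm (emb v) = SuzT.qm v := by decide +kernel

theorem inF_emb : ∀ v : SuzT.V, InF (emb v) := by unfold InF; decide +kernel

theorem proj_emb : ∀ v : SuzT.V, proj (emb v) = v := by decide +kernel

theorem emb_proj : ∀ w : V, InF w → emb (proj w) = w := by unfold InF; decide +kernel

theorem emb_add (v w : SuzT.V) : emb (v + w) = emb v + emb w := by
  simp only [emb, Pi.add_apply, add_smul]; abel

theorem emb_smul (k : ZMod 2) (v : SuzT.V) : emb (k • v) = k • emb v := by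
  simp only [emb, Pi.smul_apply, smul_eq_mul, mul_smul, smul_add]

theorem proj_add (v w : V) : proj (v + w) = proj v + proj w := by
  funext i
  rcases i with (i | i) | i
  · rfl
  · rfl
  · fin_cases i <;> rfl

theorem proj_smul (k : ZMod 2) (v : V) : proj (k • v) = k • proj v := by
  funext i
  rcases i with (i | i) | i
  · rfl
  · rfl
  · fin_cases i <;> rfl

theorem pol_emb (v w : SuzT.V) : pol (emb v) (emb w) = SuzT.pol v w := by
  rw [pol, SuzT.pol, ← emb_add, qm_emb, qm_emb, qm_emb]

/-- the restriction to the orthogonal space -/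
noncomputable def resEquiv (c : C0) : SuzT.V ≃ₗ[ZMod 2] SuzT.V where
  toFun v := proj ((c : Ga) • emb v)
  map_add' v w := by rw [emb_add, smul_add', proj_add]
  map_smul' k v := by rw [emb_smul, smul_smul', proj_smul]; rfl
  invFun v := proj ((c : Ga)⁻¹ • emb v)
  left_inv v := by
    show proj ((c : Ga)⁻¹ • emb (proj ((c : Ga) • emb v))) = v
    rw [emb_proj _ (comm_inF (mem_C0.1 c.2) (inF_emb v)), inv_smul_smul, proj_emb]
  right_inv v := by
    show proj ((c : Ga) • emb (proj ((c : Ga)⁻¹ • emb v))) = v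
    rw [emb_proj _ (comm_inF (mem_C0.1 c.2).inv_left (inF_emb v)), smul_inv_smul, proj_emb]

theorem emb_res (c : C0) (v : SuzT.V) : emb (resEquiv c v) = (c : Ga) • emb v :=
  emb_proj _ (comm_inF (mem_C0.1 c.2) (inF_emb v))

theorem res_mem (c : C0) : resEquiv c ∈ ORefl.Iso SuzT.QF := fun v => by
  rw [SuzT.coe_QF, ← qm_emb, emb_res, smul_qm, qm_emb]

/-- the restriction homomorphism -/
noncomputable def res : C0 →* SuzT.OG where
  toFun c := ⟨resEquiv c, res_mem c⟩
  map_one' := Subtype.ext (LinearEquiv.ext fun v => by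
    show proj (((1 : C0) : Ga) • emb v) = v
    rw [Subgroup.coe_one, one_smul, proj_emb])
  map_mul' a b := Subtype.ext (LinearEquiv.ext fun v => by
    show proj (((a * b : C0) : Ga) • emb v) = resEquiv a (resEquiv b v)
    rw [Subgroup.coe_mul, mul_smul, ← emb_res b v]
    rfl)

theorem res_fix {c : C0} (h : res c = 1) {u : V} (hu : InF u) : (c : Ga) • u = u := by
  rw [← emb_proj u hu, ← emb_res]
  exact congrArg emb (LinearEquiv.congr_fun (congrArg Subtype.val h) _)

theorem res_ker {c : C0} (h : res c = 1) : ∃ i < 3, (c : Ga) = g0 ^ i := by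
  obtain ⟨i, hi, ha, hb⟩ := comm_move (mem_C0.1 c.2)
  refine ⟨i, hi, ext_pair pair0 ha hb fun u hua hub => ?_⟩
  rw [res_fix h ⟨hua, hub⟩]
  clear hi ha hb
  induction i with
  | zero => rw [pow_zero, one_smul]
  | succ n ih => rw [pow_succ, mul_smul, rot0.fix u hua hub, ← ih]

theorem g0_mem (i : ℕ) : g0 ^ i ∈ C0 := mem_C0.2 (Commute.self_pow g0 i).symm

theorem res_g0 (i : ℕ) : res ⟨g0 ^ i, g0_mem i⟩ = 1 := by
  have h1 : res ⟨g0, mem_C0.2 (Commute.refl _)⟩ = 1 := Subtype.ext (LinearEquiv.ext fun v => by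
    show proj (g0 • emb v) = v
    rw [(fixed_iff _).2 (inF_emb v), proj_emb])
  rw [show (⟨g0 ^ i, g0_mem i⟩ : C0) = ⟨g0, mem_C0.2 (Commute.refl _)⟩ ^ i from Subtype.ext rfl, map_pow, h1, one_pow]

theorem stb_le : Stb ≤ C0 := fun _ hc => mem_C0.2 (comm_of_fix (mem_Stb.1 hc).1 (mem_Stb.1 hc).2)

theorem res_range : res.range = commutator SuzT.OG := by
  have hG : ∀ H : Subgroup SuzT.OG, Nat.card H = 25920 → H = SuzT.Ga := fun H h => SuzT.eq_Ga h
  have hc : Nat.card (commutator SuzT.OG) = 25920 := by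
    have hidx := OOmega.index_two SuzT.QF_pnd (by rw [Module.finrank_fintype_fun_eq_card]; simp)
      (Or.inr (by rw [Module.finrank_fintype_fun_eq_card]; simp))
    have hc := Subgroup.card_mul_index (commutator SuzT.OG)
    rw [hidx, SuzT.card_OG] at hc
    have hc2 : Nat.card (commutator SuzT.OG) = 25920 := by omega
    exact hc2
  rw [hG _ hc]
  refine hG _ ?_
  let f : Stb →* SuzT.OG := res.comp (Subgroup.inclusion stb_le)
  have hf : Function.Injective f := (injective_iff_map_eq_one f).2 fun c hc => by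
    obtain ⟨hca, hcb⟩ := mem_Stb.1 c.2
    exact Subtype.ext (ext_pair pair0 (by rw [hca]; exact (one_smul _ _).symm)
      (by rw [hcb]; exact (one_smul _ _).symm) fun u hua hub =>
      (res_fix hc ⟨hua, hub⟩).trans (one_smul _ _).symm)
  have e : res.range = f.range := by
    refine le_antisymm ?_ ?_
    · rintro _ ⟨c, rfl⟩
      obtain ⟨i, -, ha, hb⟩ := comm_move (mem_C0.1 c.2)
      have hm : (g0 ^ i)⁻¹ * (c : Ga) ∈ Stb :=
        mem_Stb.2 ⟨by rw [mul_smul, ha, inv_smul_smul], by rw [mul_smul, hb, inv_smul_smul]⟩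
      refine ⟨⟨_, hm⟩, ?_⟩
      show res _ = _
      rw [show Subgroup.inclusion stb_le ⟨_, hm⟩ = (⟨g0 ^ i, g0_mem i⟩ : C0)⁻¹ * c from Subtype.ext rfl,
        map_mul, map_inv, res_g0, inv_one, one_mul]
    · rintro _ ⟨c, rfl⟩; exact ⟨_, rfl⟩
  rw [e, ← Nat.card_congr (MonoidHom.ofInjective hf).toEquiv, card_Stb]

theorem pairs_ok : ∀ v : SuzT.V, (∀ w : SuzT.V, SuzT.pol v w = 0) → v = 0 := by decide +kernel

theorem e0_inF : InF e0 := by unfold InF; decide +kernel

theorem a2_inF : InF a2 ∧ InF b2 := by unfold InF; decide +kernel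

end Cfsg.Agent.Spor.CoT.Three
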