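/-!
Data on elements of order three rotating an anisotropic plane in the commutator subgroup of the isometry group
of a plus form in dimension eight over two elements: words in the letters.
-/

set_option autoImplicit false

namespace Cfsg.Agent.Spor.CoT.Three.Dat

/-- the rotation of the first plane -/
def g0w : List Nat := [2, 5, 5, 5, 4, 2, 3, 3, 3, 2, 2, 3, 4, 2, 5, 4, 2, 2, 4, 3, 2, 3, 2, 3, 5, 2, 3, 5, 4, 3, 2]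

/-- the rotation of an orthogonal plane -/
def g1w : List Nat := [3, 5, 5, 3, 2, 5, 3, 2, 5, 2, 3, 5, 4, 5, 4, 2, 2, 4, 3, 2, 3, 2, 3]

/-- an element inverting the second rotation -/
def xw : List Nat := [0, 1, 0, 1, 1, 3, 5, 4, 2, 3, 3, 3, 5, 2, 3, 2, 5, 5, 3, 4, 4, 4, 5, 5, 2, 4, 4, 4, 3, 2, 4, 3, 5, 4, 4, 3, 2, 2, 5, 2, 3, 5, 4, 3, 2]

/-- moving the first vector -/
def firstw : List (Nat × List Nat) :=
  [(17, [5, 4, 1, 1]),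
   (19, [3, 0, 1]),
   (21, [2, 0]),
   (23, [0, 2, 2, 1]),
   (25, [5, 0]),
   (27, [1, 0, 4]),
   (29, [3, 0]),
   (31, [4, 0]),
   (34, [0, 2, 0]),
   (35, [1]),
   (38, [4, 1]),
   (39, [3, 2, 5]),
   (42, [4, 5, 1]),
   (43, [2, 2, 3]),
   (46, [4, 2, 1]),
   (47, [0, 2]),
   (49, [2, 0, 0]),
   (50, [0, 0]),
   (53, [1, 4, 3]),
   (54, [0, 0, 1]),
   (57, [1, 5, 5]),
   (58, [0, 3, 2]),
   (61, [2, 2, 0, 0]),
   (62, [4, 1, 1]),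
   (68, [2, 3, 1]),
   (69, [0, 3]),
   (70, [0, 0, 2]),
   (71, [1, 3]),
   (76, [5, 2, 2]),
   (77, [5, 3]),
   (78, [2, 2]),
   (79, [3]),
   (81, [4, 3, 0]),
   (83, [0, 3, 4]),
   (84, [2, 2, 0]),
   (86, [2, 4, 0]),
   (89, [5, 0, 0]),
   (91, [0, 0, 0]),
   (92, [1, 2]),
   (94, [5, 0, 5, 0]),
   (98, [2, 1]),
   (99, [5, 2]),
   (100, [4]),
   (101, [0, 1, 1]),
   (106, [3, 4]),
   (107, [5, 1]),
   (108, [0, 2, 1]),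
   (109, [4, 1, 4]),
   (113, [5, 4, 0]),
   (114, [0, 4, 0]),
   (116, [2, 0, 1]),
   (119, [2, 4, 0, 0]),
   (121, [4, 4, 0]),
   (122, [5, 3, 0]),
   (124, [0, 1, 5]),
   (127, [1, 5, 1]),
   (136, []),
   (137, [1, 5]),
   (138, [4, 3]),
   (139, [4, 2, 2]),
   (140, [2, 5]),
   (141, [1, 0]),
   (142, [5, 3, 1]),
   (143, [3, 1, 3]),
   (145, [0, 4, 3]),
   (147, [5, 5, 0, 0]),
   (149, [1, 3, 4]),
   (151, [3, 1, 3, 0]),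
   (152, [1, 2, 3]),
   (154, [2, 1, 2]),
   (156, [5, 5, 0]),
   (158, [1, 0, 0, 2]),
   (162, [2, 5, 2]),
   (163, [2, 2, 1]),
   (166, [3, 2]),
   (167, [0, 1, 2]),
   (168, [5, 1, 5]),
   (169, [5]),
   (172, [0, 4]),
   (173, [2, 5, 1]),
   (177, [1, 1, 0]),
   (178, [0, 5, 0]),
   (181, [0, 4, 3, 0]),
   (182, [0, 2, 0, 0]),
   (184, [4, 3, 3, 0]),
   (187, [3, 3, 0]),
   (188, [1, 1]),
   (191, [5, 0, 0, 1]),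
   (196, [2, 3]),
   (197, [2, 2, 2]),
   (198, [2, 0, 3]),
   (199, [1, 4, 0]),
   (200, [1, 4]),
   (201, [5, 5]),
   (202, [4, 1, 0]),
   (203, [1, 1, 2]),
   (209, [1, 3, 0]),
   (211, [0, 1, 0]),
   (212, [5, 2, 0]),
   (214, [0, 1]),
   (216, [2, 1, 1]),
   (218, [1, 2, 0, 0]),
   (221, [4, 0, 0]),
   (223, [4, 0, 0, 0]),
   (226, [1, 2, 0]),
   (227, [2]),
   (228, [2, 2, 5]),
   (229, [3, 1]),
   (232, [5, 0, 3]),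
   (233, [3, 5, 1]),
   (238, [0, 5, 2]),
   (239, [3, 2, 1]),
   (241, [5, 3, 3, 0]),
   (242, [4, 4, 3, 0]),
   (244, [4, 2, 0, 0]),
   (247, [1, 0, 2]),
   (248, [3, 4, 0, 0]),
   (251, [3, 1, 1]),
   (253, [2, 5, 4, 0]),
   (254, [0])]

/-- moving the second vector, fixing the first -/
def fixw : List (Nat × List Nat) :=
  [(25, [5, 1, 0, 2, 2]),
   (27, [1, 4, 1, 1, 2]),
   (29, [1, 3, 1, 4]),
   (31, [2, 1, 5, 1, 2, 0]),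
   (42, [3, 1, 2, 3, 0]),
   (43, [2, 3, 5, 1, 3]),
   (46, [5, 4, 5, 4]),
   (47, [0, 0, 0, 2, 1, 0]),
   (57, [3, 2, 2, 1, 5]),
   (58, [3, 2, 0, 3, 0, 1]),
   (61, [0, 3, 4, 3, 4, 0]),
   (62, [0, 0, 0, 3, 1]),
   (76, []),
   (77, [3, 3, 3, 3]),
   (78, [5, 3, 5, 4, 2]),
   (79, [5, 0, 0, 3, 2]),
   (89, [4, 4, 3, 3, 1]),
   (91, [5, 2, 1, 0, 0]),
   (92, [0, 3, 1, 1, 3]),
   (94, [3, 5, 3, 4, 1]),
   (106, [3, 3]),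
   (107, [2, 5, 1, 4]),
   (108, [5, 4]),
   (109, [1, 4, 1, 2, 5, 0]),
   (121, [5, 2, 4, 1]),
   (122, [0, 3, 3, 0, 4, 1]),
   (124, [5, 5, 4, 3, 5, 1]),
   (127, [5, 3, 1, 5, 2]),
   (145, [4, 4, 1]),
   (147, [2, 2, 0, 2, 1]),
   (149, [4, 4, 1, 5, 4]),
   (151, [3, 2, 1, 2, 0]),
   (162, [0, 5, 0, 0, 1]),
   (163, [5, 5, 5, 2]),
   (166, [2, 1, 2, 1]),
   (167, [1, 2, 2, 1, 0]),
   (177, [5, 1, 1, 4, 0]),
   (178, [4, 0, 2, 2, 0, 0]),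
   (181, [1, 2, 1, 5, 3, 0]),
   (182, [4, 1, 0, 4, 5, 0]),
   (196, [4, 2, 0, 1, 4]),
   (197, [5, 4, 3, 3]),
   (198, [5, 3, 5, 2, 2]),
   (199, [2, 3, 2]),
   (209, [0, 3, 2, 0, 1]),
   (211, [5, 1, 4, 2, 3]),
   (212, [4, 1, 0, 0]),
   (214, [0, 3, 1, 0, 5]),
   (226, [3, 5, 4, 0, 2]),
   (227, [1, 2, 3, 1]),
   (228, [0, 3, 5, 1, 2]),
   (229, [4, 3, 1, 0]),
   (241, [5, 5, 0, 0, 4, 0]),
   (242, [3, 3, 4, 4, 1]),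
   (244, [3, 4, 1, 2, 0]),
   (247, [1, 0, 5, 5])]

end Cfsg.Agent.Spor.CoT.Three.Dat
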