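import Cfsg.Agent.Lib.Spor.CoTypeMain
import Cfsg.Agent.Lib.Spor.CoTypeThree.Cent

/-!
Groups of Conway type: lifts of elements of order three to the centraliser of the central involution.
-/

set_option autoImplicit false
set_option maxRecDepth 100000
set_option linter.unusedSectionVars false

namespace Cfsg.Agent.Spor.CoT.Three

open Cfsg.Agent.Classical

universe u

variable {G : Type u} [Group G] [Finite G] {z : G} {Q : Subgroup G}

/-- a change of coordinates by an element of the isometry subgroup -/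
noncomputable def twist (F : Frame z Q) (c : Ga) : Frame z Q where
  vec a := c • F.vec a
  π := (MulAut.conj c).toMonoidHom.comp F.π
  vec_mul a ha b hb := by rw [F.vec_mul a ha b hb, smul_add']
  vec_surj v := by
    obtain ⟨a, ha, e⟩ := F.vec_surj (c⁻¹ • v)
    exact ⟨a, ha, by rw [e, smul_inv_smul]⟩
  vec_zero a ha := by
    rw [← F.vec_zero a ha]
    exact ⟨fun e => by rw [← inv_smul_smul c (F.vec a), e, smul_zero'], fun e => by rw [e, smul_zero']⟩
  sq_iff a ha := by rw [smul_qm]; exact F.sq_iff a ha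
  sq_or := F.sq_or
  comm_iff a ha b hb := by rw [smul_pol]; exact F.comm_iff a ha b hb
  comm_or := F.comm_or
  vec_conj d a ha := by
    rw [F.vec_conj d a ha]
    simp [mul_smul, inv_smul_smul]
  π_surj g := by
    obtain ⟨d, hd⟩ := F.π_surj (c⁻¹ * g * c)
    exact ⟨d, by simp [hd, mul_assoc]⟩
  π_ker d := by
    rw [← F.π_ker d]
    simp [MulAut.conj_apply]

variable (F : Frame z Q)
include F

theorem pi_congr {a b : G} (ha : Commute a z) (hb : Commute b z) (e : a = b) : F.π (cC ha) = F.π (cC hb) := by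
  subst e; rfl

theorem pi_pow {a : G} (ha : Commute a z) (n : ℕ) : F.π (cC (ha.pow_left n)) = F.π (cC ha) ^ n := by
  rw [← map_pow]; exact congrArg F.π (Subtype.ext (SubmonoidClass.coe_pow (cC ha) n).symm)

theorem pi_inv {a : G} (ha : Commute a z) : F.π (cC ha.inv_left) = (F.π (cC ha))⁻¹ := by
  rw [← map_inv]; rfl

theorem pi_conj {a c : G} (hc : Commute c z) (ha : Commute a z) :
    F.π (cC ((hc.mul_left ha).mul_left hc.inv_left)) = F.π (cC hc) * F.π (cC ha) * (F.π (cC hc))⁻¹ := by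
  rw [← map_inv, ← map_mul, ← map_mul]; rfl

theorem pi_cube {a : G} (ha : Commute a z) (h3 : a ^ 3 = 1) : F.π (cC ha) ^ 3 = 1 := by
  rw [← pi_pow F ha 3, pi_congr F _ (Commute.one_left z) h3]
  exact map_one F.π

theorem Q_cube (h : Hyp z Q) {a : G} (ha : a ∈ Q) (h3 : a ^ 3 = 1) : a = 1 := by
  have h2 : a * a = 1 ∨ a * a = z := F.sq_or a ha
  have e : a * (a * a) = 1 := by rw [← h3]; simp [pow_succ, mul_assoc]
  rcases h2 with e2 | e2 <;> rw [e2] at e
  · simpa using e
  · have : a = z := by rw [eq_inv_of_mul_eq_one_left e, inv_eq_of_mul_eq_one_right (zz h)]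
    rw [this, zz h] at e2
    exact absurd e2.symm (z_ne h)

/-- an element of order dividing three commutes with the elements of the extraspecial subgroup it fixes -/
theorem comm_Q (h : Hyp z Q) {d a : G} (hd : Commute d z) (d3 : d ^ 3 = 1) (ha : a ∈ Q)
    (hfix : F.π (cC hd) • F.vec a = F.vec a) : Commute d a := by
  rcases vec_eq F (h.norm d hd a ha) ha h (by rw [← hfix]; exact F.vec_conj (cC hd) a ha) with e | e
  · exact mul_inv_eq_iff_eq_mul.1 e
  exfalso
  have h1 : ∀ x : G, d * (x * z) * d⁻¹ = d * x * d⁻¹ * z := fun x => by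
    rw [show d * (x * z) * d⁻¹ = d * x * (z * d⁻¹) by group, ← hd.inv_left.eq]; group
  have e3 : d ^ 3 * a * (d ^ 3)⁻¹ = a * z := by
    calc d ^ 3 * a * (d ^ 3)⁻¹ = d * (d * (d * a * d⁻¹) * d⁻¹) * d⁻¹ := by
          simp only [pow_succ, pow_zero, one_mul]; group
      _ = a * z := by
          rw [e, h1 a, e, mul_assoc a z z, zz h, mul_one, e]
  rw [d3, one_mul, inv_one, mul_one] at e3
  exact z_ne h (left_eq_mul.1 e3)

theorem fix_of_comm (h : Hyp z Q) {d a : G} (hd : Commute d z) (ha : a ∈ Q) (hc : Commute d a) :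
    F.π (cC hd) • F.vec a = F.vec a := by
  rw [← F.vec_conj (cC hd) a ha]
  show F.vec (d * a * d⁻¹) = _
  rw [hc.eq, mul_inv_cancel_right]

/-- lifts of order three are conjugate under the extraspecial subgroup -/
theorem conj_lift' (h : Hyp z Q) {d d' : G} (hd : Commute d z) (hd' : Commute d' z) (d3 : d ^ 3 = 1)
    (d3' : d' ^ 3 = 1) (he : F.π (cC hd) = F.π (cC hd')) : ∃ k ∈ Q, k * d * k⁻¹ = d' ∧
      F.vec k = F.π (cC hd) • F.π (cC hd) • F.vec (d⁻¹ * d') := by
  set g := F.π (cC hd) with hg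
  have g3 : ∀ v : V, g • g • g • v = v := fun v => by
    rw [← mul_smul, ← mul_smul, show g * g * g = 1 by
      rw [← pi_cube F hd d3]; simp [← hg, pow_succ, mul_assoc], one_smul]
  have hdi : ((cC hd)⁻¹ : Subgroup.centralizer ({z} : Set G)).1 = d⁻¹ := rfl
  set q := d⁻¹ * d' with hqd
  have hq : q ∈ Q := (F.π_ker ((cC hd)⁻¹ * cC hd')).1 (by rw [map_mul, map_inv, ← hg, he, inv_mul_cancel])
  have hdq : d' = d * q := by rw [hqd]; group
  have h2q : d * d * q * (d * d)⁻¹ ∈ Q := h.norm _ (hd.mul_left hd) q hq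
  have h1q : d * q * d⁻¹ ∈ Q := h.norm _ hd q hq
  have hsum : g • F.vec q + g • g • F.vec q + F.vec q = 0 := by
    have e : d * q * d⁻¹ * (d * d * q * (d * d)⁻¹) * q = 1 := by
      calc d * q * d⁻¹ * (d * d * q * (d * d)⁻¹) * q = (d * q) ^ 3 := by
            rw [show (d * d)⁻¹ = d by
              refine inv_eq_of_mul_eq_one_right ?_
              rw [← d3]; simp [pow_succ, mul_assoc]]
            simp only [pow_succ, pow_zero, one_mul]; group
        _ = 1 := by rw [← hdq, d3']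
    have hv := congrArg F.vec e
    rw [vec_one F h, F.vec_mul _ (mul_mem h1q h2q) _ hq, F.vec_mul _ h1q _ h2q] at hv
    have e1 : F.vec (d * q * d⁻¹) = g • F.vec q := F.vec_conj (cC hd) q hq
    have e2 : F.vec (d * d * q * (d * d)⁻¹) = g • g • F.vec q := by
      rw [show d * d * q * (d * d)⁻¹ = d * (d * q * d⁻¹) * d⁻¹ by group, ← e1]
      exact F.vec_conj (cC hd) _ h1q
    rwa [e1, e2] at hv
  obtain ⟨k, hk, hkv⟩ := F.vec_surj (g • g • F.vec q)
  have hdk : d⁻¹ * k * d ∈ Q := by simpa using h.norm d⁻¹ hd.inv_left k hk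
  have hcom : d⁻¹ * k * d * k⁻¹ ∈ Q := mul_mem hdk (inv_mem hk)
  have e1 : F.vec (d⁻¹ * k * d) = g⁻¹ • F.vec k := by
    have := F.vec_conj (cC hd)⁻¹ k hk
    rwa [hdi, inv_inv, map_inv, ← hg] at this
  have hv : F.vec (d⁻¹ * k * d * k⁻¹) = F.vec q := by
    rw [F.vec_mul _ hdk _ (inv_mem hk), vec_inv F h hk, e1, hkv, inv_smul_smul]
    exact (eq_neg_of_add_eq_zero_left hsum).trans (ZModModule.neg_eq_self _)
  refine ⟨k, hk, ?_, hkv⟩
  rcases vec_eq F hcom hq h hv with e | e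
  · rw [hdq, ← e]; group
  · exfalso
    have hk3 : (k * d * k⁻¹) ^ 3 = 1 := by rw [conj_pow, d3]; group
    rw [show k * d * k⁻¹ = d * (d⁻¹ * k * d * k⁻¹) by group, e, ← mul_assoc, ← hdq,
      (show Commute d' z from hd').mul_pow, d3', one_mul, pow_succ, pow_two, zz h, one_mul] at hk3
    exact z_ne h hk3

theorem conj_lift (h : Hyp z Q) {d d' : G} (hd : Commute d z) (hd' : Commute d' z) (d3 : d ^ 3 = 1)
    (d3' : d' ^ 3 = 1) (he : F.π (cC hd) = F.π (cC hd')) : ∃ k ∈ Q, k * d * k⁻¹ = d' := by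
  obtain ⟨k, hk, e, -⟩ := conj_lift' F h hd hd' d3 d3' he
  exact ⟨k, hk, e⟩

theorem lift3 (h : Hyp z Q) {g : Ga} (g3 : g ^ 3 = 1) {d : G} (hd : Commute d z) (he : F.π (cC hd) = g) :
    (d ^ 4) ^ 3 = 1 ∧ F.π (cC (hd.pow_left 4)) = g := by
  refine ⟨?_, by rw [pi_pow F hd, he, pow_succ, g3, one_mul]⟩
  have hq : d ^ 3 ∈ Q := (F.π_ker (cC (hd.pow_left 3))).1 (by rw [pi_pow F hd, he, g3])
  rw [← pow_mul, show 4 * 3 = 3 * (2 * 2) by norm_num, pow_mul, pow_mul]
  rcases F.sq_or _ hq with e | e <;> rw [pow_two (d ^ 3), e]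
  · exact one_pow 2
  · rw [pow_two]; exact zz h

theorem exists_lift3 (h : Hyp z Q) {g : Ga} (g3 : g ^ 3 = 1) :
    ∃ d : G, ∃ hd : Commute d z, d ^ 3 = 1 ∧ F.π (cC hd) = g := by
  obtain ⟨c, hc⟩ := F.π_surj g
  obtain ⟨e1, e2⟩ := lift3 F h g3 (mem_C.1 c.2) hc
  exact ⟨_, _, e1, e2⟩

end Cfsg.Agent.Spor.CoT.Three
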