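import Cfsg.Agent.Lib.Spor.CoTypeThree.Lift

/-!
Groups of Conway type: the centraliser of an element of order three rotating a plane, inside the centraliser of the
central involution, and conjugates of the central involution in it.
-/

set_option autoImplicit false
set_option maxRecDepth 100000
set_option linter.unusedSectionVars false

namespace Cfsg.Agent.Spor.CoT.Three

open Chk Cfsg.Agent.Classical

instance : DecidablePred fun v => InP v ∧ InF v := fun v => by unfold InP InF; infer_instance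

theorem fix_count : (Finset.univ.filter fun v : V => InP v ∧ InF v).card = 16 := by
  decide +kernel

theorem rad_fixed : ∃ s : Finset Ga, s.card = 16 ∧ ∀ r ∈ s, RadAt (r : OG) ∧ Commute r g0 := by
  classical
  have sel : ∀ a : (Finset.univ.filter fun v : V => InP v ∧ InF v), ∃ g : Ga, RadAt (g : OG) ∧ param (g : OG) = (a : V) ∧
      Commute g g0 := by
    intro a
    obtain ⟨-, haP, haF⟩ := Finset.mem_filter.1 a.2
    obtain ⟨g, hg, hp, -⟩ := rad_exists haP
    refine ⟨g, hg, hp, ?_⟩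
    have h0 : ∀ {v : V}, InF v → g0 • v = v := fun {v} hv => (fixed_iff v).2 hv
    have hi : ∀ {v : V}, InF v → g0⁻¹ • v = v := fun {v} hv => inv_smul_eq_iff.2 (h0 hv).symm
    have hr : RadAt ((g0 * g * g0⁻¹ : Ga) : OG) := by
      refine ⟨?_, fun v hv => ?_⟩
      · rw [coe_smul, mul_smul, mul_smul, hi e0_inF, ← coe_smul g, hg.1, h0 e0_inF]
      · rw [coe_smul, mul_smul, mul_smul, ← coe_smul g]
        have hv' : pol e0 (g0⁻¹ • v) = 0 := by
          conv_lhs => rw [← hi e0_inF, smul_pol]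
          exact hv
        rcases hg.2 _ hv' with e | e <;> rw [e]
        · exact Or.inl (smul_inv_smul _ _)
        · exact Or.inr (by rw [smul_add', smul_inv_smul, h0 e0_inF])
    have hpar : param ((g0 * g * g0⁻¹ : Ga) : OG) = param (g : OG) := by
      have hf : InF f0 := by unfold InF; decide +kernel
      rw [param, coe_smul, mul_smul, mul_smul, hi hf, ← coe_smul g, (rad_act hg).2, hp, smul_add', smul_add',
        smul_smul', h0 hf, h0 haF, h0 e0_inF, ← hp, ← (rad_act hg).2]
      rfl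
    exact (mul_inv_eq_iff_eq_mul.1 (Subtype.ext (rad_ext hr hg hpar))).symm
  choose f hf using sel
  refine ⟨Finset.univ.image f, ?_, fun r hr => ?_⟩
  · rw [Finset.card_image_of_injective _ (fun a b e => Subtype.ext ?_), Finset.card_univ, Fintype.card_coe, fix_count]
    rw [← (hf a).2.1, e, (hf b).2.1]
  · obtain ⟨a, -, rfl⟩ := Finset.mem_image.1 hr
    exact ⟨(hf a).1, (hf a).2.2⟩

universe u

variable {G : Type u} [Group G] [Finite G]

/-- an element of order three fixing a four dimensional space, in coordinates -/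
structure Ctx (z : G) (Q : Subgroup G) where
  h : Hyp z Q
  F : Frame z Q
  y : G
  hyz : Commute y z
  y3 : y ^ 3 = 1
  piy : F.π (cC hyz) = g0

variable {z : G} {Q : Subgroup G} (K : Ctx z Q)

theorem Ctx.comm_iff {a : G} (ha : a ∈ Q) : Commute a K.y ↔ InF (K.F.vec a) := by
  rw [← fixed_iff, ← K.piy]
  exact ⟨fun hc => fix_of_comm K.F K.h K.hyz ha hc.symm, fun hf => (comm_Q K.F K.h K.hyz K.y3 ha hf).symm⟩

theorem Ctx.g0_ne : g0 ≠ (1 : Ga) := by
  intro e
  have h := rot0.fst
  rw [e, one_smul] at h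
  exact (show va ≠ vb by decide +kernel) h

theorem Ctx.y_ne : K.y ≠ 1 := fun e => Ctx.g0_ne (by
  rw [← K.piy, pi_congr K.F K.hyz (Commute.one_left z) e]; exact map_one K.F.π)

theorem Ctx.y_not_mem : K.y ∉ Q := fun hy => K.y_ne (Q_cube K.F K.h hy K.y3)

theorem Ctx.pi_comm {d : G} (hd : Commute d z) (hdy : Commute d K.y) : Commute (K.F.π (cC hd)) g0 := by
  rw [← K.piy]
  exact (show Commute (cC hd) (cC K.hyz) from Subtype.ext hdy.eq).map K.F.π

theorem Ctx.exists_liftY {g : Ga} (hg : Commute g g0) :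
    ∃ d : G, ∃ hd : Commute d z, Commute d K.y ∧ K.F.π (cC hd) = g := by
  obtain ⟨c, hc⟩ := K.F.π_surj g
  have hcz : Commute (c : G) z := mem_C.1 c.2
  have hd' : Commute ((c : G) * K.y * (c : G)⁻¹) z := (hcz.mul_left K.hyz).mul_left hcz.inv_left
  have he : K.F.π (cC hd') = g0 := by
    rw [pi_conj K.F hcz K.hyz, K.piy, show K.F.π (cC hcz) = g from hc, hg.eq, mul_inv_cancel_right]
  obtain ⟨k, hk, hkd⟩ := conj_lift K.F K.h K.hyz hd' K.y3 (by rw [conj_pow, K.y3]; group) (K.piy.trans he.symm)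
  have hkz : Commute k⁻¹ z := (Qz K.h hk).inv_left
  refine ⟨k⁻¹ * c, hkz.mul_left hcz, ?_, ?_⟩
  · have e : k⁻¹ * c * K.y * (k⁻¹ * (c : G))⁻¹ = K.y := by
      rw [show k⁻¹ * c * K.y * (k⁻¹ * (c : G))⁻¹ = k⁻¹ * ((c : G) * K.y * (c : G)⁻¹) * k by group, ← hkd]; group
    exact mul_inv_eq_iff_eq_mul.1 e
  · rw [π_mul K.F hkz hcz, π_Q K.F K.h (inv_mem hk), one_mul]
    exact hc

theorem Ctx.exists_liftY3 {g : Ga} (hg : Commute g g0) (g3 : g ^ 3 = 1) :
    ∃ d : G, ∃ hd : Commute d z, d ^ 3 = 1 ∧ Commute d K.y ∧ K.F.π (cC hd) = g := by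
  obtain ⟨d, hd, hdy, he⟩ := K.exists_liftY hg
  obtain ⟨e1, e2⟩ := lift3 K.F K.h g3 hd he
  exact ⟨_, _, e1, hdy.pow_left 4, e2⟩

theorem exists_base0 : ∃ x, Base K.F x ∧ Commute x K.y := by
  obtain ⟨x, B⟩ := exists_base K.F K.h
  exact ⟨x, B, (K.comm_iff B.mem).2 (by rw [B.vec]; exact e0_inF)⟩

theorem Ctx.card_image_le (d : G) (hd : Commute d z) {n : ℕ} (hn : n ≤ Nat.card {a : Q // Commute (a : G) d}) :
    (Finset.univ.image fun v : V => K.F.π (cC hd) • v + v).card * n ≤ 2 * 256 := by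
  classical
  set g := K.F.π (cC hd) with hg
  let f : V →+ V := AddMonoidHom.mk' (fun v => g • v + v) fun a b => by simp only [smul_add']; abel
  have hker : Nat.card {a : Q // Commute (a : G) d} ≤ 2 * Nat.card f.ker := by
    let m : {a : Q // Commute (a : G) d} → f.ker := fun a => ⟨K.F.vec (a.1 : G), by
      show g • K.F.vec (a.1 : G) + K.F.vec (a.1 : G) = 0
      rw [fix_of_comm K.F K.h hd a.1.2 a.2.symm, ZModModule.add_self]⟩
    have hb : ∀ a b, m a = m b → (a.1 : G) = b.1 ∨ (a.1 : G) = b.1 * z := fun a b e =>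
      vec_eq K.F a.1.2 b.1.2 K.h (congrArg Subtype.val e)
    let r : f.ker → G := fun v => if hv : ∃ a, m a = v then ((hv.choose).1 : G) else 1
    let p : {a : Q // Commute (a : G) d} → f.ker × Bool := fun a => (m a, decide ((a.1 : G) = r (m a)))
    have hp : Function.Injective p := by
      intro a b e
      have e1 : m a = m b := congrArg Prod.fst e
      have e2 : decide ((a.1 : G) = r (m a)) = decide ((b.1 : G) = r (m b)) := congrArg Prod.snd e
      rw [← e1] at e2
      by_cases ha : (a.1 : G) = r (m a)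
      · rw [decide_eq_true ha] at e2
        exact Subtype.ext (Subtype.ext (ha.trans (of_decide_eq_true e2.symm).symm))
      · rw [decide_eq_false ha] at e2
        have hb' := of_decide_eq_false e2.symm
        have hex : ∃ c, m c = m a := ⟨a, rfl⟩
        have hr : r (m a) = (hex.choose.1 : G) := dif_pos hex
        rcases hb a hex.choose hex.choose_spec.symm with h1 | h1
        · exact absurd (h1.trans hr.symm) ha
        rcases hb b hex.choose (e1.symm.trans hex.choose_spec.symm) with h2 | h2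
        · exact absurd (h2.trans hr.symm) hb'
        exact Subtype.ext (Subtype.ext (h1.trans h2.symm))
    have := Nat.card_le_card_of_injective p hp
    rwa [Nat.card_prod, Nat.card_eq_fintype_card (α := Bool), Fintype.card_bool, mul_comm] at this
  have hrange : (Finset.univ.image fun v : V => g • v + v).card = Nat.card f.range := by
    have e : Nat.card f.range = Nat.card (Set.range f) := rfl
    rw [e, Nat.card_eq_fintype_card, ← Set.toFinset_card, Set.toFinset_range]
    rfl
  have h256 : Nat.card f.range * Nat.card f.ker = 256 := by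
    rw [← Nat.card_congr (QuotientAddGroup.quotientKerEquivRange f).toEquiv,
      ← AddSubgroup.card_eq_card_quotient_mul_card_addSubgroup, Nat.card_eq_fintype_card]
    simp
  rw [hrange]
  calc Nat.card f.range * n ≤ Nat.card f.range * (2 * Nat.card f.ker) := Nat.mul_le_mul_left _ (hn.trans hker)
    _ = 2 * 256 := by rw [← h256]; ring

theorem Ctx.sect_base {x : G} (B : Base K.F x) {a : G} (ha : a ∈ Q) (hax : InQ z Q x a) :
    a = 1 ∨ a = z ∨ a = x ∨ a = x * z := sect K.F K.h B ha hax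

theorem Ctx.conj_base {x : G} (B : Base K.F x) (hxy : Commute x K.y) :
    ∃ g : G, Commute g K.y ∧ g * z * g⁻¹ = x := by
  classical
  obtain ⟨g, hg⟩ := isConj_iff.1 B.conj
  set d := g⁻¹ * K.y * g with hd
  have hdz : Commute d z := by
    have := (Commute.conj_iff g⁻¹).2 hxy.symm
    rwa [← hg, show g⁻¹ * (g * z * g⁻¹) * g⁻¹⁻¹ = z by group, inv_inv] at this
  have d3 : d ^ 3 = 1 := by
    rw [hd, show g⁻¹ * K.y * g = g⁻¹ * K.y * g⁻¹⁻¹ by rw [inv_inv], conj_pow, K.y3]; group
  obtain ⟨s, hs, hsr⟩ := rad_fixed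
  have sel : ∀ r : s, ∃ m : Subgroup.centralizer ({z} : Set G), InQ z Q x m ∧ K.F.π m = (r : Ga) := fun r =>
    rad_surj K.F K.h B (hsr r r.2).1
  choose M hM hMr using sel
  have key : ∀ r : s, ∀ k : ({1, z, x, x * z} : Finset G), ∃ a : {a : Q // Commute (a : G) d},
      ∃ hm : Commute (g * ((a : Q) : G) * g⁻¹) z,
        g * ((a : Q) : G) * g⁻¹ = (M r : G) * (k : G) ∧ K.F.π (cC hm) = (r : Ga) := by
    intro r k
    have hr2 := (hsr r r.2).2
    have hm := hM r
    have hmr := hMr r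
    generalize M r = m at hm hmr ⊢
    have hmz : Commute (m : G) z := mem_C.1 m.2
    have hk : InQ z Q x (k : G) ∧ (k : G) ∈ Q ∧ Commute (k : G) K.y := by
      have hz : InQ z Q x z := base_mem K.F K.h B
      have hx : InQ z Q x x := InQ.self K.h B.conj
      have hy : Commute z K.y := K.hyz.symm
      have hk := k.2
      simp only [Finset.mem_insert, Finset.mem_singleton] at hk
      rcases hk with e | e | e | e <;> rw [e]
      · exact ⟨⟨g, hg, by simp⟩, one_mem Q, Commute.one_left _⟩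
      · exact ⟨hz, zQ K.h, hy⟩
      · exact ⟨hx, B.mem, hxy⟩
      · exact ⟨hx.mul K.h hz, mul_mem B.mem (zQ K.h), hxy.mul_left hy⟩
    obtain ⟨hk1, hk2, hk3⟩ := hk
    have hmk : InQ z Q x ((m : G) * (k : G)) := hm.mul K.h hk1
    have hmy : Commute (m : G) K.y := by
      set e := (m : G)⁻¹ * (K.y * m * K.y⁻¹) with he
      have hq : InQ z Q x e := hm.inv.mul K.h (hm.conj' hxy.symm)
      have heQ : e ∈ Q := (K.F.π_ker (m⁻¹ * (cC K.hyz * m * (cC K.hyz)⁻¹))).1 (by
        rw [map_mul, map_inv, map_mul, map_mul, map_inv, K.piy, hmr, ← hr2.eq, mul_inv_cancel_right, inv_mul_cancel])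
      have hey : Commute e K.y := by
        rcases sect K.F K.h B heQ hq with e' | e' | e' | e' <;> rw [e']
        exacts [Commute.one_left _, K.hyz.symm, hxy, hxy.mul_left K.hyz.symm]
      have h1 : K.y * m * K.y⁻¹ = (m : G) * e := by rw [he]; group
      have hye : K.y * e * K.y⁻¹ = e := by rw [← hey.eq, mul_inv_cancel_right]
      have h2 : K.y ^ 3 * m * (K.y ^ 3)⁻¹ = (m : G) * e ^ 3 := by
        have step : ∀ n : ℕ, K.y * ((m : G) * e ^ n) * K.y⁻¹ = (m : G) * e ^ (n + 1) := fun n => by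
          rw [show K.y * ((m : G) * e ^ n) * K.y⁻¹ = (K.y * m * K.y⁻¹) * (K.y * e * K.y⁻¹) ^ n by
            rw [conj_pow]; group, h1, hye, mul_assoc, ← pow_succ']
        calc K.y ^ 3 * m * (K.y ^ 3)⁻¹ = K.y * (K.y * (K.y * ((m : G) * e ^ 0) * K.y⁻¹) * K.y⁻¹) * K.y⁻¹ := by
              simp only [pow_succ, pow_zero, one_mul, mul_one]; group
          _ = (m : G) * e ^ 3 := by rw [step, step, step]
      rw [K.y3, one_mul, inv_one, mul_one] at h2
      have e3 := left_eq_mul.1 h2
      rw [Q_cube K.F K.h heQ e3, mul_one] at h1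
      exact (mul_inv_eq_iff_eq_mul.1 h1).symm
    obtain ⟨g', hg', hb⟩ := hmk
    have hb' : g⁻¹ * ((m : G) * (k : G)) * g ∈ Q := (inQ_iff K.h hg).1 ⟨g', hg', hb⟩
    have hcd : Commute (g⁻¹ * ((m : G) * (k : G)) * g) d := by
      have := (Commute.conj_iff g⁻¹).2 (hmy.mul_left hk3)
      rwa [inv_inv] at this
    have e : g * (g⁻¹ * ((m : G) * (k : G)) * g) * g⁻¹ = (m : G) * (k : G) := by group
    have hcz : Commute (g * (g⁻¹ * ((m : G) * (k : G)) * g) * g⁻¹) z := by
      rw [e]; exact hmz.mul_left (Qz K.h hk2)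
    refine ⟨⟨⟨_, hb'⟩, hcd⟩, hcz, e, ?_⟩
    rw [pi_congr K.F hcz (hmz.mul_left (Qz K.h hk2)) e, π_mul K.F hmz (Qz K.h hk2), π_Q K.F K.h hk2, mul_one]
    exact hmr
  choose a hm hak hπ using key
  have hcard : Nat.card ({1, z, x, x * z} : Finset G) = 4 := by
    have hxz1 : x * z ≠ 1 := fun e => B.nez (by rw [eq_inv_of_mul_eq_one_left e, inv_eq_of_mul_eq_one_right (zz K.h)])
    have h1 : x * z ≠ z := fun e => B.ne1 (mul_eq_right.1 e)
    have h2 : x * z ≠ x := fun e => z_ne K.h (mul_eq_left.1 e)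
    rw [Nat.card_eq_fintype_card, Fintype.card_coe]
    simp [(z_ne K.h).symm, B.ne1.symm, hxz1.symm, B.nez.symm, h1.symm, h2.symm]
  have h64 : 64 ≤ Nat.card {a : Q // Commute (a : G) d} := by
    refine le_trans ?_ (Nat.card_le_card_of_injective (fun p : s × ({1, z, x, x * z} : Finset G) => a p.1 p.2) ?_)
    · rw [Nat.card_prod, hcard, Nat.card_eq_fintype_card, Fintype.card_coe, hs]
    · intro p q e
      have e' : g * (((a p.1 p.2) : Q) : G) * g⁻¹ = g * (((a q.1 q.2) : Q) : G) * g⁻¹ := by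
        simp only at e; rw [e]
      have hr : p.1 = q.1 := Subtype.ext (by
        rw [← hπ p.1 p.2, ← hπ q.1 q.2]; exact pi_congr K.F _ _ e')
      obtain ⟨r, k⟩ := p
      obtain ⟨r', k'⟩ := q
      subst hr
      exact Prod.ext rfl (Subtype.ext (mul_left_cancel ((hak r k).symm.trans (e'.trans (hak r k')))))
  have h8 : (Finset.univ.image fun v : V => K.F.π (cC hdz) • v + v).card ≤ 8 := by
    have := K.card_image_le d hdz h64
    omega
  have hπ1 : K.F.π (cC hdz) ≠ 1 := fun e => K.y_ne (by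
    have hQ := Q_cube K.F K.h ((K.F.π_ker _).1 e) d3
    rw [show K.y = g * d * g⁻¹ by rw [hd]; group, show d = 1 from hQ]; group)
  obtain ⟨p, q, hrot⟩ := rot_of (pi_cube K.F hdz d3) hπ1 h8
  obtain ⟨c, hc1, hc2⟩ := exists_move hrot.pair
  have hcd : c * g0 * c⁻¹ = K.F.π (cC hdz) := by
    have := rot0.conj c
    rw [hc1, hc2] at this
    exact this.unique hrot
  obtain ⟨e, he⟩ := K.F.π_surj c
  have hez : Commute (e : G) z := mem_C.1 e.2
  have h' : Commute ((e : G) * K.y * (e : G)⁻¹) z := (hez.mul_left K.hyz).mul_left hez.inv_left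
  obtain ⟨k, hk, hkd⟩ := conj_lift K.F K.h h' hdz (by rw [conj_pow, K.y3]; group) d3 (by
    rw [pi_conj K.F hez K.hyz, K.piy, show K.F.π (cC hez) = c from he, hcd])
  have hkz : Commute (k * (e : G)) z := (Qz K.h hk).mul_left hez
  refine ⟨g * (k * e), ?_, ?_⟩
  · have h1 : g * (k * (e : G)) * K.y * (g * (k * (e : G)))⁻¹ = K.y := by
      rw [show g * (k * (e : G)) * K.y * (g * (k * (e : G)))⁻¹ =
        g * (k * ((e : G) * K.y * (e : G)⁻¹) * k⁻¹) * g⁻¹ by group, hkd, hd]
      group
    exact mul_inv_eq_iff_eq_mul.1 h1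
  · calc g * (k * (e : G)) * z * (g * (k * (e : G)))⁻¹ = g * ((k * (e : G)) * z * (k * (e : G))⁻¹) * g⁻¹ := by group
      _ = x := by rw [hkz.eq, mul_inv_cancel_right, hg]

end Cfsg.Agent.Spor.CoT.Three
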