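import Cfsg.Agent.Lib.Spor.CoTypeThree.Local
import Cfsg.Agent.Lib.Spor.SuzY.Rot
import Cfsg.Agent.Lib.Solv.Extraspecial
import Cfsg.Agent.Lib.Fusion.LocalConstrained
import Cfsg.Agent.Lib.Lie.HallJankoPairs

/-!
Groups of Conway type: the centraliser of an element of order three rotating a plane, modulo that element, satisfies
the hypothesis characterising the Suzuki group.
-/

set_option autoImplicit false
set_option maxRecDepth 100000
set_option linter.unusedSectionVars false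

namespace Cfsg.Agent.Spor.CoT.Three

open Cfsg.Agent.Classical
open scoped commutatorElement

theorem bit_or : ∀ b : ZMod 2, b = 0 ∨ b = 1 := by decide

theorem suz_partner : ∀ v : SuzT.V, SuzT.qm v = 1 →
    ∃ w, SuzT.qm v = 1 ∧ SuzT.qm w = 1 ∧ SuzT.pol v w = 1 := by decide +kernel

theorem suz_va_partner : ∃ w, SuzT.qm (SuzT.Three.va + SuzT.e0) = 1 ∧ SuzT.qm w = 1 ∧
    SuzT.pol (SuzT.Three.va + SuzT.e0) w = 1 := by decide +kernel

theorem suz_two_sing : ∀ u : SuzT.V, ∃ a, SuzT.qm a = 0 ∧ SuzT.qm (u + a) = 0 := by decide +kernel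

/-- normal subgroups of two-power order in the six dimensional group are trivial -/
theorem suz_no_two {N : Subgroup SuzT.Ga} [N.Normal] (hN : IsPGroup 2 N) : N = ⊥ := by
  classical
  haveI : Fact (Nat.Prime 2) := ⟨Nat.prime_two⟩
  have h64 : 2 ∣ Nat.card SuzT.V := by simp [Nat.card_eq_fintype_card]
  have h0 : (0 : SuzT.V) ∈ MulAction.fixedPoints N SuzT.V := fun n => ((n : SuzT.Ga) : SuzT.OG).1.map_zero
  obtain ⟨v, hv, hv0⟩ := hN.exists_fixed_point_of_prime_dvd_card_of_fixed_point SuzT.V h64 h0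
  have inv : ∀ (g : SuzT.Ga) {u : SuzT.V}, u ∈ MulAction.fixedPoints N SuzT.V →
      g • u ∈ MulAction.fixedPoints N SuzT.V := by
    intro g u hu n
    have hm : g⁻¹ * (n : SuzT.Ga) * g ∈ N := by
      simpa using (inferInstance : N.Normal).conj_mem _ n.2 g⁻¹
    show (n : SuzT.Ga) • g • u = g • u
    calc (n : SuzT.Ga) • g • u = g • (g⁻¹ * (n : SuzT.Ga) * g) • u := by
          rw [← mul_smul, ← mul_smul]; congr 1; group
      _ = g • u := by rw [show (g⁻¹ * (n : SuzT.Ga) * g) • u = u from hu ⟨_, hm⟩]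
  have add : ∀ {a b : SuzT.V}, a ∈ MulAction.fixedPoints N SuzT.V → b ∈ MulAction.fixedPoints N SuzT.V →
      a + b ∈ MulAction.fixedPoints N SuzT.V := by
    intro a b ha hb n
    show (n : SuzT.Ga) • (a + b) = a + b
    rw [SuzT.Three.smul_add', show (n : SuzT.Ga) • a = a from ha n, show (n : SuzT.Ga) • b = b from hb n]
  have he : SuzT.e0 ∈ MulAction.fixedPoints N SuzT.V := by
    rcases bit_or (SuzT.qm v) with hq | hq
    · obtain ⟨g, hg⟩ := SuzT.exists_smul (Ne.symm hv0) hq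
      have := inv g⁻¹ hv
      rwa [← hg, inv_smul_smul] at this
    · obtain ⟨w, hw⟩ := suz_partner v hq
      obtain ⟨g, hg, -⟩ := SuzT.Three.exists_move (a := v) (b := w) hw
      have ha : SuzT.Three.va ∈ MulAction.fixedPoints N SuzT.V := by
        have := inv g⁻¹ hv
        rwa [← hg, inv_smul_smul] at this
      obtain ⟨w', hw'⟩ := suz_va_partner
      obtain ⟨g', hg', -⟩ := SuzT.Three.exists_move (a := SuzT.Three.va + SuzT.e0) (b := w') hw'
      have := add ha (inv g' ha)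
      rwa [hg', ← add_assoc, ZModModule.add_self, zero_add] at this
  have hsing : ∀ a : SuzT.V, SuzT.qm a = 0 → a ∈ MulAction.fixedPoints N SuzT.V := by
    intro a ha
    by_cases e : a = 0
    · rw [e]; exact h0
    · obtain ⟨g, hg⟩ := SuzT.exists_smul e ha
      exact hg ▸ inv g he
  refine (Subgroup.eq_bot_iff_forall N).2 fun n hn => Subtype.ext (Subtype.ext (LinearEquiv.ext fun u => ?_))
  obtain ⟨a, ha, hua⟩ := suz_two_sing u
  have := add (hsing a ha) (hsing _ hua) ⟨n, hn⟩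
  rwa [add_comm u a, ← add_assoc, ZModModule.add_self, zero_add] at this

universe u

variable {G : Type u} [Group G] [Finite G] {z : G} {Q : Subgroup G} (K : Ctx z Q)

/-- the elements over an additively closed set of vectors -/
def Ctx.Pre (S : Set V) (h0 : (0 : V) ∈ S) (hadd : ∀ a ∈ S, ∀ b ∈ S, a + b ∈ S) : Subgroup G where
  carrier := {a | a ∈ Q ∧ K.F.vec a ∈ S}
  one_mem' := ⟨one_mem Q, by rw [vec_one K.F K.h]; exact h0⟩
  mul_mem' := fun {a b} ha hb => ⟨mul_mem ha.1 hb.1, by rw [K.F.vec_mul a ha.1 b hb.1]; exact hadd _ ha.2 _ hb.2⟩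
  inv_mem' := fun {a} ha => ⟨inv_mem ha.1, by rw [vec_inv K.F K.h ha.1]; exact ha.2⟩

theorem Ctx.card_Pre (S : Set V) (h0 : (0 : V) ∈ S) (hadd : ∀ a ∈ S, ∀ b ∈ S, a + b ∈ S) :
    Nat.card (K.Pre S h0 hadd) = 2 * S.ncard := by
  let φ : K.Pre S h0 hadd →* Multiplicative V := MonoidHom.mk' (fun a => Multiplicative.ofAdd (K.F.vec a))
    fun a b => by rw [← ofAdd_add, ← K.F.vec_mul _ a.2.1 _ b.2.1]; rfl
  have hker : Nat.card φ.ker = 2 := by
    have hz : z ∈ K.Pre S h0 hadd := ⟨zQ K.h, by rw [(K.F.vec_zero z (zQ K.h)).2 (Or.inr rfl)]; exact h0⟩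
    let f : Bool → φ.ker := fun b => bif b then ⟨⟨z, hz⟩, MonoidHom.mem_ker.2
      (congrArg Multiplicative.ofAdd ((K.F.vec_zero z (zQ K.h)).2 (Or.inr rfl)))⟩ else 1
    have hf : Function.Bijective f := by
      refine ⟨fun a b e => ?_, fun a => ?_⟩
      · have e' : ((f a : K.Pre S h0 hadd) : G) = (f b : K.Pre S h0 hadd) := by rw [e]
        cases a <;> cases b
        · rfl
        · exact absurd (show z = 1 from e'.symm) (z_ne K.h)
        · exact absurd (show z = 1 from e') (z_ne K.h)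
        · rfl
      · rcases (K.F.vec_zero _ (a : K.Pre S h0 hadd).2.1).1
          (Multiplicative.ofAdd.injective (MonoidHom.mem_ker.1 a.2)) with e | e
        · exact ⟨false, Subtype.ext (Subtype.ext e.symm)⟩
        · exact ⟨true, Subtype.ext (Subtype.ext e.symm)⟩
    rw [← Nat.card_eq_of_bijective f hf, Nat.card_eq_fintype_card, Fintype.card_bool]
  have hrange : (φ.range : Set (Multiplicative V)) = Multiplicative.ofAdd '' S := by
    ext v
    constructor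
    · rintro ⟨a, rfl⟩; exact ⟨_, a.2.2, rfl⟩
    · rintro ⟨s, hs, rfl⟩
      obtain ⟨a, ha, rfl⟩ := K.F.vec_surj s
      exact ⟨⟨a, ha, hs⟩, rfl⟩
  have hr : Nat.card φ.range = S.ncard := by
    show Nat.card (φ.range : Set (Multiplicative V)) = _
    rw [hrange, Nat.card_image_of_injective Multiplicative.ofAdd.injective, Nat.card_coe_set_eq]
  rw [Subgroup.card_eq_card_quotient_mul_card_subgroup φ.ker,
    Nat.card_congr (QuotientGroup.quotientKerEquivRange φ).toEquiv, hr, hker, mul_comm]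

/-- the part of the extraspecial subgroup centralised by `y` -/
def Ctx.CQ : Subgroup G where
  carrier := {a | a ∈ Q ∧ Commute a K.y}
  one_mem' := ⟨one_mem Q, Commute.one_left _⟩
  mul_mem' := fun ha hb => ⟨mul_mem ha.1 hb.1, ha.2.mul_left hb.2⟩
  inv_mem' := fun ha => ⟨inv_mem ha.1, ha.2.inv_left⟩

theorem Ctx.card_CQ : Nat.card K.CQ = 128 := by
  have e : K.CQ = K.Pre {v | InF v} (by show InF 0; unfold InF; decide +kernel) (by
      intro a ha b hb
      show InF (a + b)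
      rw [← fixed_iff] at *
      rw [smul_add', (fixed_iff a).2 ha, (fixed_iff b).2 hb]) := by
    ext a
    exact ⟨fun h => ⟨h.1, (K.comm_iff h.1).1 h.2⟩, fun h => ⟨h.1, (K.comm_iff h.1).2 h.2⟩⟩
  rw [e, K.card_Pre]
  have hc : ({v : V | InF v}).ncard = 64 := by
    have hs : {v : V | InF v} = Set.range emb := by
      ext v
      exact ⟨fun hv => ⟨proj v, emb_proj v hv⟩, by rintro ⟨w, rfl⟩; exact inF_emb w⟩
    rw [hs, ← Nat.card_coe_set_eq,
      Nat.card_congr (Equiv.ofInjective emb fun a b h => by rw [← proj_emb a, h, proj_emb]).symm,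
      Nat.card_eq_fintype_card]
    simp
  rw [hc]

theorem Ctx.center_CQ {a : G} (ha : a ∈ K.CQ) (hc : ∀ b ∈ K.CQ, Commute a b) : a = 1 ∨ a = z := by
  refine (K.F.vec_zero a ha.1).1 ?_
  have hv : InF (K.F.vec a) := (K.comm_iff ha.1).1 ha.2
  have h0 : proj (K.F.vec a) = 0 := pairs_ok _ fun w => by
    obtain ⟨b, hb, hbv⟩ := K.F.vec_surj (emb w)
    rw [← pol_emb, emb_proj _ hv, ← hbv, ← K.F.comm_iff a ha.1 b hb]
    exact hc b ⟨hb, (K.comm_iff hb).2 (by rw [hbv]; exact inF_emb w)⟩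
  rw [← emb_proj _ hv, h0]
  unfold emb
  simp

theorem Ctx.extraspecial_CQ : Cfsg.IsExtraspecial 2 K.CQ := by
  haveI : Fact (Nat.Prime 2) := ⟨Nat.prime_two⟩
  have hzCQ : z ∈ K.CQ := ⟨zQ K.h, K.hyz.symm⟩
  have hzc : (⟨z, hzCQ⟩ : K.CQ) ∈ Subgroup.center K.CQ :=
    Subgroup.mem_center_iff.2 fun b => Subtype.ext (Qz K.h b.2.1).eq
  have hcen : ∀ a : K.CQ, a ∈ Subgroup.center K.CQ → a = 1 ∨ a = ⟨z, hzCQ⟩ := fun a ha => by
    rcases K.center_CQ a.2 fun b hb => (congrArg Subtype.val (Subgroup.mem_center_iff.1 ha ⟨b, hb⟩)).symm with e | e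
    · exact Or.inl (Subtype.ext e)
    · exact Or.inr (Subtype.ext e)
  refine Solv.isExtraspecial_of (IsPGroup.of_card (n := 7) (by rw [K.card_CQ]; norm_num)) ?_ (le_antisymm ?_ ?_)
    fun a => ?_
  · rw [Nat.card_eq_two_iff]
    refine ⟨1, ⟨_, hzc⟩, fun e => z_ne K.h (congrArg (fun a : Subgroup.center K.CQ => ((a : K.CQ) : G)) e).symm,
      Set.eq_univ_of_forall fun a => ?_⟩
    rcases hcen a a.2 with e | e
    · exact Or.inl (Subtype.ext e)
    · exact Or.inr (Subtype.ext e)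
  · rw [commutator_def, Subgroup.commutator_le]
    intro a _ b _
    rcases K.F.comm_or (b : G) b.2.1 (a : G) a.2.1 with e | e
    · rw [show ⁅a, b⁆ = 1 from commutatorElement_eq_one_iff_mul_comm.2 (Subtype.ext e)]
      exact one_mem _
    · rw [show ⁅a, b⁆ = ⟨z, hzCQ⟩ from Subtype.ext (by
        show (a : G) * b * (a : G)⁻¹ * (b : G)⁻¹ = z
        rw [e, mul_assoc (b : G) a z, (Qz K.h a.2.1).eq]
        simp only [← mul_assoc]
        rw [mul_inv_cancel_right, (Qz K.h b.2.1).eq, mul_inv_cancel_right])]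
      exact hzc
  · intro a ha
    rcases hcen a ha with rfl | rfl
    · exact one_mem _
    obtain ⟨r, hr, hrv⟩ := K.F.vec_surj a2
    obtain ⟨s, hs, hsv⟩ := K.F.vec_surj b2
    have hne : ¬ Commute r s := fun e => by
      rw [K.F.comm_iff r hr s hs, hrv, hsv, pair1.2.2] at e; exact one_ne_zero e
    have hr' : r ∈ K.CQ := ⟨hr, (K.comm_iff hr).2 (hrv ▸ a2_inF.1)⟩
    have hs' : s ∈ K.CQ := ⟨hs, (K.comm_iff hs).2 (hsv ▸ a2_inF.2)⟩
    rcases K.F.comm_or r hr s hs with e | e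
    · exact absurd e.symm hne
    have := Subgroup.commutator_mem_commutator (Subgroup.mem_top (⟨s, hs'⟩ : K.CQ))
      (Subgroup.mem_top (⟨r, hr'⟩ : K.CQ))
    rw [← commutator_def] at this
    convert this using 1
    refine Subtype.ext ?_
    show z = s * r * s⁻¹ * r⁻¹
    rw [e, mul_assoc r s z, (Qz K.h hs).eq]
    simp only [← mul_assoc]
    rw [mul_inv_cancel_right, (Qz K.h hr).eq, mul_inv_cancel_right]
  · rcases K.F.sq_or (a : G) a.2.1 with e | e
    · rw [show a ^ 2 = 1 from Subtype.ext (by rw [SubmonoidClass.coe_pow, pow_two, e]; rfl)]; exact one_mem _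
    · rw [show a ^ 2 = ⟨z, hzCQ⟩ from Subtype.ext (by rw [SubmonoidClass.coe_pow, pow_two, e])]; exact hzc

theorem commute_zp {g : G} (h : Commute g K.y) : g ∈ Subgroup.centralizer (Subgroup.zpowers K.y : Set G) :=
  Subgroup.mem_centralizer_iff.2 fun a ha => by
    obtain ⟨i, rfl⟩ := Subgroup.mem_zpowers_iff.1 ha
    exact ((h.zpow_right i).eq).symm

theorem of_mem_cent {g : G} (h : g ∈ Subgroup.centralizer (Subgroup.zpowers K.y : Set G)) : Commute g K.y :=
  (Subgroup.mem_centralizer_iff.1 h K.y (Subgroup.mem_zpowers _)).symm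

/-- the centraliser of the element of order three -/
abbrev Ctx.L : Subgroup G := Subgroup.centralizer (Subgroup.zpowers K.y : Set G)

/-- the cyclic subgroup inside its centraliser -/
abbrev Ctx.P : Subgroup K.L := (Subgroup.zpowers K.y).subgroupOf K.L

instance Ctx.P_normal : K.P.Normal := ⟨fun n hn g => by
  have hc : Commute (g : G) (n : G) := ((Subgroup.mem_centralizer_iff.1 g.2) _ (Subgroup.mem_subgroupOf.1 hn)).symm
  rw [show g * n * g⁻¹ = n from Subtype.ext (by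
    show (g : G) * n * (g : G)⁻¹ = n
    rw [hc.eq, mul_inv_cancel_right])]
  exact hn⟩

/-- the projection -/
abbrev Ctx.pr : K.L →* K.L ⧸ K.P := QuotientGroup.mk' K.P

/-- the image of the central involution -/
noncomputable def Ctx.zb : K.L ⧸ K.P := K.pr ⟨z, commute_zp K K.hyz.symm⟩

/-- the centraliser of the image of the involution -/
abbrev Ctx.H : Subgroup (K.L ⧸ K.P) := Subgroup.centralizer ({K.zb} : Set (K.L ⧸ K.P))

/-- the common centraliser -/
def Ctx.CY : Subgroup G where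
  carrier := {g | Commute g z ∧ Commute g K.y}
  one_mem' := ⟨Commute.one_left _, Commute.one_left _⟩
  mul_mem' := fun ha hb => ⟨ha.1.mul_left hb.1, ha.2.mul_left hb.2⟩
  inv_mem' := fun ha => ⟨ha.1.inv_left, ha.2.inv_left⟩

theorem pow_y_mem (i : ℤ) : K.y ^ i ∈ K.CY := zpow_mem (show K.y ∈ K.CY from ⟨K.hyz, Commute.refl _⟩) i

theorem Ctx.exists_nat {g : G} (h : g ∈ Subgroup.zpowers K.y) : ∃ i : ℕ, i < 3 ∧ g = K.y ^ i := by
  obtain ⟨n, rfl⟩ := (mem_powers_iff_mem_zpowers).2 h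
  refine ⟨n % 3, Nat.mod_lt _ (by norm_num), ?_⟩
  show K.y ^ n = _
  conv_lhs => rw [← Nat.div_add_mod n 3, pow_add, pow_mul, K.y3, one_pow, one_mul]

theorem Ctx.mem_Q_y {i : ℕ} (h : K.y ^ i ∈ Q) : K.y ^ i = 1 :=
  Q_cube K.F K.h h (by rw [← pow_mul, mul_comm, pow_mul, K.y3, one_pow])

/-- the map onto the centraliser in the quotient -/
noncomputable def Ctx.ψ : K.CY →* K.H :=
  (K.pr.comp (Subgroup.inclusion (fun g (hg : g ∈ K.CY) => commute_zp K hg.2))).codRestrict _ fun g =>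
    Subgroup.mem_centralizer_singleton_iff.2 (by
      show _ * K.zb = K.zb * _
      rw [Ctx.zb, MonoidHom.comp_apply, ← map_mul, ← map_mul]
      exact congrArg K.pr (Subtype.ext g.2.1.eq))

theorem Ctx.ψ_val (g : K.CY) : (K.ψ g : K.L ⧸ K.P) = K.pr ⟨g, commute_zp K g.2.2⟩ := rfl

theorem Ctx.ψ_eq {g g' : K.CY} : K.ψ g = K.ψ g' ↔ (g : G)⁻¹ * g' ∈ Subgroup.zpowers K.y := by
  rw [Subtype.ext_iff, K.ψ_val, K.ψ_val]
  exact QuotientGroup.eq.trans Subgroup.mem_subgroupOf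

theorem Ctx.ψ_one {g : K.CY} : K.ψ g = 1 ↔ (g : G) ∈ Subgroup.zpowers K.y := by
  rw [eq_comm, ← map_one K.ψ, K.ψ_eq, show ((1 : K.CY) : G)⁻¹ * (g : G) = (g : G) by simp]

theorem Ctx.ψ_surj : Function.Surjective K.ψ := by
  rintro ⟨x, hx⟩
  obtain ⟨⟨c, hc⟩, rfl⟩ := QuotientGroup.mk'_surjective K.P x
  have hcy := of_mem_cent K hc
  have e := Subgroup.mem_centralizer_singleton_iff.1 hx
  rw [Ctx.zb, ← map_mul, ← map_mul] at e
  obtain ⟨i, -, hi⟩ := K.exists_nat (Subgroup.mem_subgroupOf.1 (QuotientGroup.eq.1 e))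
  change (c * z)⁻¹ * (z * c) = K.y ^ i at hi
  have hzc : c⁻¹ * z * c = z * K.y ^ i := by
    rw [← hi, show z * ((c * z)⁻¹ * (z * c)) = z * z⁻¹ * (c⁻¹ * z * c) by group, mul_inv_cancel, one_mul]
  have h2 : K.y ^ i * K.y ^ i = 1 := by
    have : c⁻¹ * z * c * (c⁻¹ * z * c) = z * K.y ^ i * (z * K.y ^ i) := by rw [hzc]
    rw [show c⁻¹ * z * c * (c⁻¹ * z * c) = c⁻¹ * (z * z) * c by group, zz K.h,
      show z * K.y ^ i * (z * K.y ^ i) = z * (K.y ^ i * z) * K.y ^ i by group, (K.hyz.pow_left i).eq, ← mul_assoc,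
      zz K.h, one_mul] at this
    rw [← this]; group
  have hyi : K.y ^ i = 1 := by
    have h3 : (K.y ^ i) ^ 3 = 1 := by rw [← pow_mul, mul_comm, pow_mul, K.y3, one_pow]
    rw [pow_succ, pow_two, h2, one_mul] at h3
    exact h3
  rw [hyi, mul_one] at hzc
  have hcz : Commute c z := by
    show c * z = z * c
    conv_lhs => rw [← hzc]
    group
  exact ⟨⟨c, hcz, hcy⟩, Subtype.ext rfl⟩

/-- the action on the extraspecial subgroup -/
noncomputable def Ctx.PI : K.CY →* Ga :=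
  K.F.π.comp (Subgroup.inclusion fun _ hg => mem_C.2 hg.1)

theorem Ctx.PI_val (g : K.CY) : K.PI g = K.F.π (cC g.2.1) := rfl

theorem Ctx.PI_range : K.PI.range = C0 := by
  ext c
  rw [mem_C0]
  constructor
  · rintro ⟨g, rfl⟩; exact K.pi_comm g.2.1 g.2.2
  · intro hc
    obtain ⟨d, hd, hdy, e⟩ := K.exists_liftY hc
    exact ⟨⟨d, hd, hdy⟩, e⟩

/-- image of a subgroup -/
noncomputable def Ctx.img (S : Subgroup G) : Subgroup K.H := (S.subgroupOf K.CY).map K.ψ

theorem Ctx.mem_img {S : Subgroup G} (hS : S ≤ K.CY) {g : G} (hg : g ∈ S) : K.ψ ⟨g, hS hg⟩ ∈ K.img S :=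
  ⟨⟨g, hS hg⟩, hg, rfl⟩

theorem Ctx.img_iso {S : Subgroup G} (hS : S ≤ K.CY) (h1 : ∀ g ∈ S, g ∈ Subgroup.zpowers K.y → g = 1) :
    Nonempty (K.img S ≃* S) := by
  let f : S →* K.H := K.ψ.comp (Subgroup.inclusion hS)
  have hf : Function.Injective f := (injective_iff_map_eq_one f).2 fun a ha =>
    Subtype.ext (h1 a a.2 (K.ψ_one.1 ha))
  have e : K.img S = f.range := by
    ext x
    constructor
    · rintro ⟨a, ha, rfl⟩; exact ⟨⟨a, ha⟩, Subtype.ext rfl⟩
    · rintro ⟨a, rfl⟩; exact K.mem_img hS a.2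
  exact ⟨(MulEquiv.subgroupCongr e).trans (MonoidHom.ofInjective hf).symm⟩

theorem Ctx.CQ_le : K.CQ ≤ K.CY := fun _ ha => ⟨Qz K.h ha.1, ha.2⟩

/-- the image of the fixed part of the extraspecial subgroup -/
noncomputable def Ctx.RH : Subgroup K.H := K.img K.CQ

theorem Ctx.RH_iso : Nonempty (K.RH ≃* K.CQ) := K.img_iso K.CQ_le fun g hg hy => by
  obtain ⟨i, -, rfl⟩ := K.exists_nat hy
  exact K.mem_Q_y hg.1

instance Ctx.RH_normal : K.RH.Normal := by
  refine Subgroup.Normal.map ⟨fun n hn g => ?_⟩ K.ψ K.ψ_surj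
  exact ⟨K.h.norm g g.2.1 n hn.1, (g * n * g⁻¹).2.2⟩

theorem Ctx.card_RH : Nat.card K.RH = 128 := by
  rw [Nat.card_congr K.RH_iso.some.toEquiv, K.card_CQ]

theorem Ctx.RH_map {x : K.L ⧸ K.P} :
    x ∈ K.RH.map K.H.subtype ↔ ∃ a ∈ Q, ∃ hy : Commute a K.y, x = K.pr ⟨a, commute_zp K hy⟩ := by
  constructor
  · rintro ⟨-, ⟨g, hg, rfl⟩, rfl⟩; exact ⟨g, hg.1, g.2.2, rfl⟩
  · rintro ⟨a, ha, hy, rfl⟩
    exact ⟨_, K.mem_img K.CQ_le ⟨ha, hy⟩, rfl⟩

/-- the action on the orthogonal space -/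
noncomputable def Ctx.resY : K.CY →* SuzT.OG :=
  res.comp (K.PI.codRestrict C0 fun g => mem_C0.2 (K.pi_comm g.2.1 g.2.2))

theorem Ctx.resY_range : K.resY.range = commutator SuzT.OG := by
  rw [← res_range, Ctx.resY, MonoidHom.range_comp, MonoidHom.range_eq_map res]
  refine congrArg (Subgroup.map res) (eq_top_iff.2 fun c _ => ?_)
  obtain ⟨g, hg⟩ : (c : Ga) ∈ K.PI.range := by rw [K.PI_range]; exact c.2
  exact ⟨g, Subtype.ext hg⟩

theorem powY (i : ℕ) : K.y ^ i ∈ K.CY := pow_mem (show K.y ∈ K.CY from ⟨K.hyz, Commute.refl _⟩) i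

theorem Ctx.resY_one {g : K.CY} : K.resY g = 1 ↔ K.ψ g ∈ K.RH := by
  constructor
  · intro hg
    obtain ⟨i, -, hπ⟩ := res_ker hg
    change K.PI g = g0 ^ i at hπ
    set q := (g : G) * (K.y ^ i)⁻¹ with hq
    have hqQ : q ∈ Q := (K.F.π_ker (cC g.2.1 * (cC (K.hyz.pow_left i))⁻¹)).1 (by
      rw [map_mul, map_inv, pi_pow K.F K.hyz, K.piy, ← K.PI_val, hπ, mul_inv_cancel])
    have hqy : Commute q K.y := g.2.2.mul_left ((Commute.refl K.y).pow_left i).inv_left
    refine ⟨⟨q, K.CQ_le ⟨hqQ, hqy⟩⟩, ⟨hqQ, hqy⟩, K.ψ_eq.2 ?_⟩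
    show q⁻¹ * (g : G) ∈ _
    rw [hq, show ((g : G) * (K.y ^ i)⁻¹)⁻¹ * (g : G) = K.y ^ i by group]
    exact pow_mem (Subgroup.mem_zpowers _) i
  · rintro ⟨a, ha, e⟩
    obtain ⟨i, -, hi⟩ := K.exists_nat (K.ψ_eq.1 e)
    have hg : g = a * ⟨K.y ^ i, powY K i⟩ := Subtype.ext (by
      show (g : G) = (a : G) * K.y ^ i
      rw [← hi]; group)
    have h1 : K.resY a = 1 := by
      show res _ = 1
      rw [show K.PI.codRestrict C0 _ a = 1 from Subtype.ext (π_Q K.F K.h ha.1), map_one]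
    have h2 : K.resY ⟨K.y ^ i, powY K i⟩ = 1 := by
      show res _ = 1
      rw [show K.PI.codRestrict C0 _ ⟨K.y ^ i, powY K i⟩ = ⟨g0 ^ i, g0_mem i⟩ from Subtype.ext (by
        show K.F.π _ = g0 ^ i
        exact (pi_pow K.F K.hyz i).trans (by rw [K.piy])), res_g0]
    rw [hg, map_mul, h1, h2, one_mul]

/-- the action of the centraliser of the image of the involution -/
noncomputable def Ctx.act : K.H →* SuzT.OG :=
  (K.ψ.liftOfSurjective K.ψ_surj) ⟨K.resY, fun g hg => K.resY_one.2 (by rw [MonoidHom.mem_ker.1 hg]; exact one_mem _)⟩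

theorem Ctx.act_ψ (g : K.CY) : K.act (K.ψ g) = K.resY g :=
  MonoidHom.liftOfRightInverse_comp_apply _ _ _ _ g

theorem Ctx.act_ker : K.act.ker = K.RH := by
  ext x
  obtain ⟨g, rfl⟩ := K.ψ_surj x
  rw [MonoidHom.mem_ker, K.act_ψ, K.resY_one]

theorem Ctx.act_range : K.act.range = commutator SuzT.OG := by
  rw [← K.resY_range]
  ext x
  constructor
  · rintro ⟨a, rfl⟩
    obtain ⟨g, rfl⟩ := K.ψ_surj a
    exact ⟨g, (K.act_ψ g).symm⟩
  · rintro ⟨g, rfl⟩; exact ⟨_, K.act_ψ g⟩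

theorem Ctx.omega_equiv :
    Nonempty (K.H ⧸ K.RH ≃* Cfsg.Omega (ZMod 2) (Cfsg.quadFormMinus 2 (ZMod 2) 1 1)) := by
  show Nonempty (K.H ⧸ K.RH ≃* Cfsg.Omega (ZMod 2) SuzT.qm)
  rw [← SuzT.coe_QF]
  have e : (commutator SuzT.OG).map (ORefl.toMat SuzT.QF).toMonoidHom =
      commutator ↥(Cfsg.isometryGroup (ZMod 2) ⇑SuzT.QF) := by
    rw [commutator_def, Subgroup.map_commutator, Subgroup.map_top_of_surjective _ (ORefl.toMat SuzT.QF).surjective,
      ← commutator_def]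
  exact ⟨((QuotientGroup.quotientMulEquivOfEq K.act_ker.symm).trans
    (QuotientGroup.quotientKerEquivRange K.act)).trans ((MulEquiv.subgroupCongr K.act_range).trans
    ((Subgroup.equivMapOfInjective _ _ (ORefl.toMat SuzT.QF).injective).trans (MulEquiv.subgroupCongr e)))⟩

theorem Ctx.pCore_H : Cfsg.pCore 2 K.H = K.RH := by
  haveI : Fact (Nat.Prime 2) := ⟨Nat.prime_two⟩
  refine le_antisymm (fun x hx => ?_) (Fusion.le_pCore (IsPGroup.of_card (n := 7) (by rw [K.card_RH]; norm_num)))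
  haveI : (Cfsg.pCore 2 K.H).Normal := Solv.pCore_normal 2
  have hG : K.act.range = SuzT.Ga := by
    rw [K.act_range]
    refine SuzT.eq_Ga ?_
    have hidx := OOmega.index_two SuzT.QF_pnd (by rw [Module.finrank_fintype_fun_eq_card]; simp)
      (Or.inr (by rw [Module.finrank_fintype_fun_eq_card]; simp))
    have hc := Subgroup.card_mul_index (commutator SuzT.OG)
    rw [hidx, SuzT.card_OG] at hc
    have hc2 : Nat.card (commutator SuzT.OG) = 25920 := by omega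
    exact hc2
  let f : K.H →* SuzT.Ga := K.act.codRestrict SuzT.Ga fun a => hG ▸ ⟨a, rfl⟩
  have hf : Function.Surjective f := fun b => by
    obtain ⟨a, ha⟩ : (b : SuzT.OG) ∈ K.act.range := by rw [hG]; exact b.2
    exact ⟨a, Subtype.ext ha⟩
  haveI : ((Cfsg.pCore 2 K.H).map f).Normal := Subgroup.Normal.map inferInstance f hf
  have hN := suz_no_two ((Fusion.isPGroup_pCore 2 K.H).map f)
  rw [← K.act_ker, MonoidHom.mem_ker]
  have : f x ∈ (Cfsg.pCore 2 K.H).map f := ⟨x, hx, rfl⟩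
  rw [hN, Subgroup.mem_bot] at this
  exact congrArg Subtype.val this

theorem Ctx.gfit : Cfsg.generalizedFittingSubgroup K.H = K.RH := by
  haveI : Fact (Nat.Prime 2) := ⟨Nat.prime_two⟩
  rw [(Fusion.gfit_eq_pCore_iff (p := 2)).2 ?_, K.pCore_H]
  rw [K.pCore_H]
  intro x hx
  obtain ⟨c, rfl⟩ := K.ψ_surj x
  have hall : ∀ a ∈ Q, Commute a K.y → Commute (c : G) a := by
    intro a ha hay
    have e := Subgroup.mem_centralizer_iff.1 hx _ (K.mem_img K.CQ_le ⟨ha, hay⟩)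
    rw [← map_mul, ← map_mul] at e
    obtain ⟨i, -, hi⟩ := K.exists_nat (K.ψ_eq.1 e)
    change (a * (c : G))⁻¹ * ((c : G) * a) = K.y ^ i at hi
    have hq : K.y ^ i ∈ Q := by
      rw [← hi, show (a * (c : G))⁻¹ * ((c : G) * a) = (c : G)⁻¹ * a⁻¹ * (c : G) * a by group]
      refine mul_mem ?_ ha
      simpa using K.h.norm _ c.2.1.inv_left _ (inv_mem ha)
    rw [K.mem_Q_y hq] at hi
    exact (inv_mul_eq_one.1 hi).symm
  refine K.resY_one.1 (Subtype.ext (LinearEquiv.ext fun v => ?_))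
  show proj (K.PI c • emb v) = v
  obtain ⟨a, ha, hav⟩ := K.F.vec_surj (emb v)
  rw [← hav]
  rw [show K.PI c • K.F.vec a = K.F.vec a from
    fix_of_comm K.F K.h c.2.1 ha (hall a ha ((K.comm_iff ha).2 (by rw [hav]; exact inF_emb v))), hav, proj_emb]

theorem Ctx.zb_ord : orderOf K.zb = 2 := by
  refine orderOf_eq_prime ?_ fun e => ?_
  · rw [Ctx.zb, ← map_pow, show (⟨z, commute_zp K K.hyz.symm⟩ : K.L) ^ 2 = 1 from
      Subtype.ext (by rw [SubmonoidClass.coe_pow, pow_two, zz K.h]; rfl), map_one]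
  · obtain ⟨i, -, hi⟩ := K.exists_nat (Subgroup.mem_subgroupOf.1 ((QuotientGroup.eq_one_iff _).1 e))
    exact z_ne K.h (hi.trans (K.mem_Q_y (hi ▸ zQ K.h)))

theorem Ctx.pr_inj {a b : G} (ha : a ∈ Q) (hb : b ∈ Q) (hay : Commute a K.y) (hby : Commute b K.y)
    (e : K.pr ⟨a, commute_zp K hay⟩ = K.pr ⟨b, commute_zp K hby⟩) : a = b := by
  obtain ⟨i, -, hi⟩ := K.exists_nat (Subgroup.mem_subgroupOf.1 (QuotientGroup.eq.1 e))
  change a⁻¹ * b = K.y ^ i at hi
  rw [K.mem_Q_y (hi ▸ mul_mem (inv_mem ha) hb)] at hi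
  exact inv_mul_eq_one.1 hi

theorem Ctx.nwc : ∃ g : K.L ⧸ K.P, (∃ hq : g * K.zb * g⁻¹ ∈ K.H,
    (⟨g * K.zb * g⁻¹, hq⟩ : K.H) ∈ K.RH) ∧ g * K.zb * g⁻¹ ≠ K.zb := by
  obtain ⟨x, B, hxy⟩ := exists_base0 K
  obtain ⟨g, hgy, hg⟩ := K.conj_base B hxy
  have e : K.pr ⟨g, commute_zp K hgy⟩ * K.zb * (K.pr ⟨g, commute_zp K hgy⟩)⁻¹ = K.pr ⟨x, commute_zp K hxy⟩ := by
    rw [Ctx.zb, ← map_inv, ← map_mul, ← map_mul]
    exact congrArg K.pr (Subtype.ext hg)
  refine ⟨K.pr ⟨g, commute_zp K hgy⟩, ?_, fun h => ?_⟩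
  · rw [e]
    exact ⟨(K.ψ ⟨x, K.CQ_le ⟨B.mem, hxy⟩⟩).2, K.mem_img K.CQ_le ⟨B.mem, hxy⟩⟩
  · rw [e, Ctx.zb] at h
    exact B.nez (K.pr_inj B.mem (zQ K.h) hxy K.hyz.symm h)

theorem Ctx.extraspecial_RH : Cfsg.IsExtraspecial 2 K.RH :=
  Cfsg.Agent.Lie.HallJankoPairs.extraspecial_congr K.RH_iso.some.symm K.extraspecial_CQ

end Cfsg.Agent.Spor.CoT.Three
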