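import Cfsg.Agent.Lib.Spor.CoTypeBig
import Cfsg.Agent.Lib.Spor.CoTypeThree.Data

/-!
Rotations of anisotropic planes in the commutator subgroup of the isometry group of a plus form in dimension eight
over two elements.
-/

set_option autoImplicit false
set_option maxRecDepth 100000
set_option linter.unusedSectionVars false

namespace Cfsg.Agent.Spor.CoT.Three

open Chk Three.Dat Cfsg.Agent.Classical

/-- first vector of the plane -/
def va : V := CoT.vec 136

/-- second vector of the plane -/
def vb : V := CoT.vec 76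

/-- first vector of an orthogonal plane -/
def a2 : V := CoT.vec 140

/-- second vector of an orthogonal plane -/
def b2 : V := CoT.vec 200

/-- a pair spanning an anisotropic plane -/
def Pair (a b : V) : Prop := qm a = 1 ∧ qm b = 1 ∧ pol a b = 1

/-- a rotation of the plane of a pair -/
structure Rot3 (g : Ga) (a b : V) : Prop where
  pair : Pair a b
  fst : g • a = b
  snd : g • b = a + b
  fix : ∀ v, pol v a = 0 → pol v b = 0 → g • v = v

theorem pol_polar (v w : V) : pol v w = QuadraticMap.polar (⇑QF) v w := pol_eq_polar v w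

theorem pol_addr (u v w : V) : pol u (v + w) = pol u v + pol u w := pol_add_right u v w

theorem Pair.smul {a b : V} (h : Pair a b) (c : Ga) : Pair (c • a) (c • b) :=
  ⟨by rw [smul_qm, h.1], by rw [smul_qm, h.2.1], by rw [smul_pol, h.2.2]⟩

theorem Rot3.conj {g : Ga} {a b : V} (h : Rot3 g a b) (c : Ga) : Rot3 (c * g * c⁻¹) (c • a) (c • b) := by
  refine ⟨h.pair.smul c, ?_, ?_, fun v h1 h2 => ?_⟩
  · rw [mul_smul, mul_smul, inv_smul_smul, h.fst]
  · rw [mul_smul, mul_smul, inv_smul_smul, h.snd, smul_add']
  · rw [mul_smul, mul_smul, h.fix, smul_inv_smul]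
    · rw [← smul_pol c, smul_inv_smul]; exact h1
    · rw [← smul_pol c, smul_inv_smul]; exact h2

theorem decomp {a b : V} (h : Pair a b) (v : V) :
    ∃ u, v = u + (pol v b • a + pol v a • b) ∧ pol u a = 0 ∧ pol u b = 0 := by
  have hba : pol b a = 1 := (pol_comm' b a).trans h.2.2
  refine ⟨v + (pol v b • a + pol v a • b), ?_, ?_, ?_⟩
  · rw [add_assoc, ZModModule.add_self, add_zero]
  · rw [pol_add_left, pol_add_left, pol_smul_left, pol_smul_left, pol_self, hba, mul_zero, zero_add, mul_one,
      ZModModule.add_self]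
  · rw [pol_add_left, pol_add_left, pol_smul_left, pol_smul_left, pol_self, h.2.2, mul_zero, add_zero, mul_one,
      ZModModule.add_self]

theorem ext_pair {g h : Ga} {a b : V} (hp : Pair a b) (h1 : g • a = h • a) (h2 : g • b = h • b)
    (h3 : ∀ u, pol u a = 0 → pol u b = 0 → g • u = h • u) : g = h := by
  refine Subtype.ext (Subtype.ext (LinearEquiv.ext fun v => ?_))
  show g • v = h • v
  obtain ⟨u, hu, ha, hb⟩ := decomp hp v
  rw [hu]
  simp only [smul_add', smul_smul', h1, h2, h3 u ha hb]

theorem Rot3.unique {g h : Ga} {a b : V} (hg : Rot3 g a b) (hh : Rot3 h a b) : g = h :=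
  ext_pair hg.pair (hg.fst.trans hh.fst.symm) (hg.snd.trans hh.snd.symm)
    fun u ha hb => (hg.fix u ha hb).trans (hh.fix u ha hb).symm

theorem Rot3.cube {g : Ga} {a b : V} (h : Rot3 g a b) : g ^ 3 = 1 := by
  have h3 : g • (a + b) = a := by
    rw [smul_add', h.fst, h.snd, add_comm a b, ← add_assoc, ZModModule.add_self, zero_add]
  refine ext_pair h.pair ?_ ?_ fun u hu hv => ?_ <;> simp only [pow_succ, pow_zero, one_mul, mul_smul, one_smul]
  · rw [h.fst, h.snd, h3]
  · rw [h.snd, h3, h.fst]
  · rw [h.fix u hu hv, h.fix u hu hv, h.fix u hu hv]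

theorem inv_eq_sq {g : Ga} (h : g ^ 3 = 1) : g⁻¹ = g * g := by
  refine inv_eq_of_mul_eq_one_right ?_
  rw [← h]; simp [pow_succ, mul_assoc]

theorem Rot3.inv {g : Ga} {a b : V} (h : Rot3 g a b) : Rot3 g⁻¹ b a := by
  refine ⟨⟨h.pair.2.1, h.pair.1, (pol_comm' b a).trans h.pair.2.2⟩, ?_, ?_, fun v h1 h2 => ?_⟩
  · rw [inv_smul_eq_iff, h.fst]
  · rw [inv_smul_eq_iff, smul_add', h.fst, h.snd, add_assoc a b b, ZModModule.add_self, add_zero]
  · rw [inv_smul_eq_iff, h.fix v h2 h1]

/-- the words move the first vector of a pair -/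
def firstOK : Bool :=
  (List.range 256).all fun v => Nat.beq (qc v) 0 || firstw.any fun e =>
    Nat.beq e.1 v && wlt e.2 && Nat.beq (app (wp e.2) 136) v

/-- the words move the second vector of a pair -/
def fixOK : Bool :=
  (List.range 256).all fun v => Nat.beq (qc v) 0 || Nat.beq (pc 136 v) 0 || fixw.any fun e =>
    Nat.beq e.1 v && wlt e.2 && Nat.beq (app (wp e.2) 136) 136 && Nat.beq (app (wp e.2) 76) v

/-- a word rotates a plane -/
def rotOK (w : List Nat) (a b : Nat) : Bool :=
  wlt w && (let L := wp w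
    Nat.beq (app L a) b && Nat.beq (app L b) (Nat.xor a b) &&
      (List.range 256).all fun c => Nat.beq (pc c a) 1 || Nat.beq (pc c b) 1 || Nat.beq (app L c) c)

/-- the inverting word -/
def invOK : Bool :=
  wlt xw && (let L := wp xw
    Nat.beq (app L 136) 136 && Nat.beq (app L 76) 76 && Nat.beq (app L 140) 200 && Nat.beq (app L 200) 140)

theorem first_ok : firstOK = true := by decide +kernel

theorem fix_ok : Three.fixOK = true := by decide +kernel

theorem g0_ok : rotOK g0w 136 76 = true := by decide +kernel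

theorem g1_ok : rotOK g1w 140 200 = true := by decide +kernel

theorem inv_ok : invOK = true := by decide +kernel

theorem qm_one {v : V} (h : qm v = 1) : Nat.beq (qc (enc v)) 0 = false := by
  rw [qm_enc] at h
  have := qc_lt (enc v)
  interval_cases hq : qc (enc v)
  · simp at h
  · rfl

theorem pol_one {v w : V} (h : pol v w = 1) : Nat.beq (pc (enc v) (enc w)) 0 = false := by
  rw [pol_enc] at h
  have : pc (enc v) (enc w) < 2 := Nat.mod_lt _ (by norm_num)
  interval_cases hq : pc (enc v) (enc w)
  · simp at h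
  · rfl

theorem exists_move {a b : V} (h : Pair a b) : ∃ c : Ga, c • va = a ∧ c • vb = b := by
  have h1 := List.all_eq_true.1 first_ok (enc a) (List.mem_range.2 (enc_lt a))
  rw [qm_one h.1] at h1
  simp only [Bool.false_or, List.any_eq_true, Bool.and_eq_true] at h1
  obtain ⟨e, -, ⟨-, hw⟩, ha⟩ := h1
  have hc : we e.2 • va = a := by rw [va, we_smul hw (by norm_num), Nat.eq_of_beq_eq_true ha, vec_enc]
  set b' := (we e.2)⁻¹ • b with hb'
  have hq : qm b' = 1 := by rw [hb', smul_qm, h.2.1]
  have hp : pol va b' = 1 := by rw [← smul_pol (we e.2), hc, hb', smul_inv_smul, h.2.2]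
  have h2 := List.all_eq_true.1 Three.fix_ok (enc b') (List.mem_range.2 (enc_lt b'))
  rw [qm_one hq, show (136 : ℕ) = enc va from (enc_vec 136 (by norm_num)).symm, pol_one hp] at h2
  simp only [Bool.false_or, List.any_eq_true, Bool.and_eq_true] at h2
  obtain ⟨f, -, ⟨⟨-, hw'⟩, hf1⟩, hf2⟩ := h2
  refine ⟨we e.2 * we f.2, ?_, ?_⟩
  · have : we f.2 • va = va := by
      conv_lhs => rw [← vec_enc va, we_smul hw' (enc_lt _), Nat.eq_of_beq_eq_true hf1, vec_enc]
    rw [mul_smul, this, hc]
  · have : we f.2 • vb = b' := by rw [vb, we_smul hw' (by norm_num), Nat.eq_of_beq_eq_true hf2, vec_enc]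
    rw [mul_smul, this, hb', smul_inv_smul]

theorem rot_word {w : List ℕ} {a b : ℕ} (ha : a < 256) (hb : b < 256) (hok : rotOK w a b = true)
    (hp : Pair (CoT.vec a) (CoT.vec b)) : Rot3 (we w) (CoT.vec a) (CoT.vec b) := by
  simp only [rotOK, Bool.and_eq_true, Bool.or_eq_true, List.all_eq_true, List.mem_range] at hok
  obtain ⟨hw, ⟨h1, h2⟩, h3⟩ := hok
  refine ⟨hp, ?_, ?_, fun v e1 e2 => ?_⟩
  · rw [we_smul hw ha, Nat.eq_of_beq_eq_true h1]
  · rw [we_smul hw hb, Nat.eq_of_beq_eq_true h2, vec_xor]
  · rw [pol_eq_zero, enc_vec _ ha] at e1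
    rw [pol_eq_zero, enc_vec _ hb] at e2
    rcases h3 (enc v) (enc_lt v) with (e | e) | e
    · rw [e1] at e; exact absurd e (by decide)
    · rw [e2] at e; exact absurd e (by decide)
    · conv_lhs => rw [← vec_enc v, we_smul hw (enc_lt v), Nat.eq_of_beq_eq_true e, vec_enc]

theorem pair0 : Pair va vb := by refine ⟨?_, ?_, ?_⟩ <;> decide +kernel

theorem pair1 : Pair a2 b2 := by refine ⟨?_, ?_, ?_⟩ <;> decide +kernel

/-- the rotation of the plane -/
noncomputable def g0 : Ga := we g0w

/-- the rotation of the orthogonal plane -/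
noncomputable def g1 : Ga := we g1w

/-- an element inverting the second rotation -/
noncomputable def xx : Ga := we xw

theorem rot0 : Rot3 g0 va vb := rot_word (by norm_num) (by norm_num) g0_ok pair0

theorem rot1 : Rot3 g1 a2 b2 := rot_word (by norm_num) (by norm_num) g1_ok pair1

theorem xx_acts : xx • va = va ∧ xx • vb = vb ∧ xx • a2 = b2 ∧ xx • b2 = a2 := by
  have h := inv_ok
  simp only [invOK, Bool.and_eq_true] at h
  obtain ⟨hw, ⟨⟨h1, h2⟩, h3⟩, h4⟩ := h
  simp only [xx, va, vb, a2, b2]
  exact ⟨by rw [we_smul hw (by norm_num), Nat.eq_of_beq_eq_true h1],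
    by rw [we_smul hw (by norm_num), Nat.eq_of_beq_eq_true h2],
    by rw [we_smul hw (by norm_num), Nat.eq_of_beq_eq_true h3],
    by rw [we_smul hw (by norm_num), Nat.eq_of_beq_eq_true h4]⟩

theorem four_add (a b : V) : ∀ x ∈ ({0, a, b, a + b} : Finset V), ∀ y ∈ ({0, a, b, a + b} : Finset V),
    x + y ∈ ({0, a, b, a + b} : Finset V) := by
  have e1 : a + (a + b) = b := by rw [← add_assoc, ZModModule.add_self, zero_add]
  have e2 : b + (a + b) = a := by rw [add_comm a b, ← add_assoc, ZModModule.add_self, zero_add]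
  have e3 : a + b + a = b := by rw [add_comm, e1]
  have e4 : a + b + b = a := by rw [add_comm, e2]
  intro x hx y hy
  simp only [Finset.mem_insert, Finset.mem_singleton] at hx hy ⊢
  have e5 : b + a = a + b := add_comm b a
  rcases hx with e | e | e | e <;> rcases hy with e' | e' | e' | e' <;> rw [e, e'] <;>
    simp only [zero_add, add_zero, e1, e2, e3, e4, e5, ZModModule.add_self, true_or, or_true]

theorem four_card {a b : V} (ha : a ≠ 0) (hb : b ≠ 0) (hab : a ≠ b) :
    ({0, a, b, a + b} : Finset V).card = 4 := by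
  have h1 : a + b ≠ 0 := fun e => hab (by rw [eq_neg_of_add_eq_zero_left e, ZModModule.neg_eq_self])
  have h2 : a ≠ a + b := fun e => hb (left_eq_add.1 e)
  have h3 : b ≠ a + b := fun e => ha (right_eq_add.1 e)
  rw [Finset.card_insert_of_notMem, Finset.card_insert_of_notMem, Finset.card_insert_of_notMem,
    Finset.card_singleton] <;> simp [Ne.symm ha, Ne.symm hb, Ne.symm h1, hab, h2, h3]

theorem rot_of {g : Ga} (h3 : g ^ 3 = 1) (h1 : g ≠ 1)
    (hs : (Finset.univ.image fun v : V => g • v + v).card ≤ 8) : ∃ a b : V, Rot3 g a b := by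
  classical
  set s := Finset.univ.image fun v : V => g • v + v with hsd
  have g3 : ∀ v : V, g • g • g • v = v := fun v => by
    rw [← mul_smul, ← mul_smul, show g * g * g = 1 by rw [← h3]; simp [pow_succ, mul_assoc], one_smul]
  have hmem : ∀ v, g • v + v ∈ s := fun v => Finset.mem_image.2 ⟨v, Finset.mem_univ _, rfl⟩
  have hsum : ∀ x ∈ s, g • g • x + g • x + x = 0 := by
    intro x hx
    obtain ⟨v, -, rfl⟩ := Finset.mem_image.1 hx
    rw [smul_add', smul_add', g3]
    have : ∀ p q r : V, p + q + (q + r) + (r + p) = 0 := fun p q r => by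
      rw [show p + q + (q + r) + (r + p) = (p + p) + (q + q) + (r + r) by abel]
      simp [ZModModule.add_self]
    exact this _ _ _
  have hadd : ∀ x ∈ s, ∀ y ∈ s, x + y ∈ s := by
    intro x hx y hy
    obtain ⟨u, -, rfl⟩ := Finset.mem_image.1 hx
    obtain ⟨w, -, rfl⟩ := Finset.mem_image.1 hy
    refine Finset.mem_image.2 ⟨u + w, Finset.mem_univ _, ?_⟩
    rw [smul_add']; abel
  have hsm : ∀ x ∈ s, g • x ∈ s := by
    intro x hx
    obtain ⟨u, -, rfl⟩ := Finset.mem_image.1 hx
    refine Finset.mem_image.2 ⟨g • u, Finset.mem_univ _, ?_⟩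
    rw [smul_add']
  have hfix : ∀ x ∈ s, g • x = x → x = 0 := fun x hx e => by
    have := hsum x hx
    rwa [e, e, ZModModule.add_self, zero_add] at this
  obtain ⟨a, ha, ha0⟩ : ∃ a ∈ s, a ≠ 0 := by
    by_contra hh
    push Not at hh
    refine h1 (Subtype.ext (Subtype.ext (LinearEquiv.ext fun v => ?_)))
    show g • v = v
    have := hh _ (hmem v)
    rw [eq_neg_of_add_eq_zero_left this, ZModModule.neg_eq_self]
  set b := g • a with hb
  have hb' : g • b = a + b := by
    have h := hsum a ha
    rw [add_assoc] at h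
    rw [eq_neg_of_add_eq_zero_left h, ZModModule.neg_eq_self, ← hb, add_comm]
  have hsub : ({0, a, b, a + b} : Finset V) ⊆ s := by
    intro x hx
    simp only [Finset.mem_insert, Finset.mem_singleton] at hx
    rcases hx with rfl | rfl | rfl | rfl
    · have := hadd a ha a ha; rwa [ZModModule.add_self] at this
    · exact ha
    · exact hsm a ha
    · exact hadd a ha b (hsm a ha)
  have hall : ∀ x ∈ s, x = 0 ∨ x = a ∨ x = b ∨ x = a + b := by
    by_contra hh
    push Not at hh
    obtain ⟨c, hc, c0, ca, cb, cab⟩ := hh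
    set T : Finset V := {0, a, b, a + b} with hT
    have hba : b ≠ a := fun e => ha0 (hfix a ha e)
    have hb0 : b ≠ 0 := fun e => ha0 (by rw [← g3 a, ← hb, e, smul_zero', smul_zero'])
    have hTc : T.card = 4 := four_card ha0 hb0 (Ne.symm hba)
    have hTadd : ∀ x ∈ T, ∀ y ∈ T, x + y ∈ T := four_add a b
    have hTsm : ∀ x ∈ T, g • x ∈ T := by
      intro x hx
      simp only [hT, Finset.mem_insert, Finset.mem_singleton] at hx ⊢
      rcases hx with rfl | rfl | rfl | rfl
      · left; exact smul_zero' g
      · exact Or.inr (Or.inr (Or.inl rfl))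
      · exact Or.inr (Or.inr (Or.inr hb'))
      · refine Or.inr (Or.inl ?_)
        rw [smul_add', ← hb, hb', add_comm a b, ← add_assoc, ZModModule.add_self, zero_add]
    have hcT : c ∉ T := by
      simp only [hT, Finset.mem_insert, Finset.mem_singleton, not_or]
      exact ⟨c0, ca, cb, cab⟩
    let C : Finset V := T.image fun x => c + x
    have hCc : C.card = 4 := by
      rw [Finset.card_image_of_injective _ (add_right_injective c), hTc]
    have hdis : Disjoint T C := by
      rw [Finset.disjoint_left]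
      intro x hx hx'
      obtain ⟨y, hy, rfl⟩ := Finset.mem_image.1 hx'
      exact hcT (by have := hTadd _ hx _ hy; rwa [add_assoc, ZModModule.add_self, add_zero] at this)
    have heq : T ∪ C = s := by
      refine Finset.eq_of_subset_of_card_le (Finset.union_subset hsub ?_) ?_
      · intro x hx
        obtain ⟨y, hy, rfl⟩ := Finset.mem_image.1 hx
        exact hadd c hc y (hsub hy)
      · rw [Finset.card_union_of_disjoint hdis, hTc, hCc]; exact hs
    obtain ⟨x, hx, hgc⟩ : ∃ x ∈ T, g • c = c + x := by
      have := hsm c hc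
      rw [← heq, Finset.mem_union] at this
      rcases this with h | h
      · exfalso
        have := hTsm _ (hTsm _ h)
        rw [g3] at this
        exact hcT this
      · obtain ⟨y, hy, e⟩ := Finset.mem_image.1 h
        exact ⟨y, hy, e.symm⟩
    have h2 := hsum c hc
    rw [hgc, smul_add', hgc, show c + x + g • x + (c + x) + c = c + ((c + c) + (x + x)) + g • x by abel,
      ZModModule.add_self, ZModModule.add_self, add_zero, add_zero] at h2
    rw [eq_neg_of_add_eq_zero_left h2, ZModModule.neg_eq_self] at hcT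
    exact hcT (hTsm x hx)
  have hpab : pol a b = 1 := by
    rcases (show ∀ t : ZMod 2, t = 0 ∨ t = 1 by decide) (pol a b) with e | e
    · exfalso
      have e' : pol b a = 0 := by rw [pol_polar, QuadraticMap.polar_comm, ← pol_polar]; exact e
      have haI : ∀ x ∈ s, pol a x = 0 ∧ pol b x = 0 := by
        intro x hx
        rcases hall x hx with hx | hx | hx | hx <;> rw [hx]
        · constructor <;> rw [pol_polar, QuadraticMap.polar_zero_right]
        · exact ⟨pol_self a, e'⟩
        · exact ⟨e, pol_self b⟩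
        · constructor <;> rw [pol_addr] <;> simp [pol_self, e, e']
      refine ha0 (QF_pnd _ fun v => ?_)
      rw [← pol_polar]
      obtain ⟨h1', h2'⟩ := haI _ (hmem v)
      rw [pol_addr] at h1' h2'
      have two : ∀ p q : ZMod 2, p + q = 0 → p = q := by decide
      have p1 : pol a v = pol b v := by
        rw [← two _ _ h2', hb, smul_pol]
      have p2 : pol b v = pol a v + pol b v := by
        conv_lhs => rw [← smul_pol g b v, hb', pol_polar, QuadraticMap.polar_add_left, ← pol_polar, ← pol_polar,
          two _ _ h1', two _ _ h2']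
      rw [← p1] at p2
      exact left_eq_add.1 p2
    · exact e
  have hqb : qm b = qm a := smul_qm g a
  have hqa : qm a = 1 := by
    have h := hpab
    rw [pol, ← hb', smul_qm, hqb] at h
    exact (show ∀ t : ZMod 2, t + t + t = 1 → t = 1 by decide) _ h
  refine ⟨a, b, ⟨hqa, hqb.trans hqa, hpab⟩, rfl, hb', fun v hva hvb => ?_⟩
  have h0 : g • v + v = 0 := by
    have hva' : pol a v = 0 := by rw [pol_polar, QuadraticMap.polar_comm, ← pol_polar]; exact hva
    have hvb' : pol b v = 0 := by rw [pol_polar, QuadraticMap.polar_comm, ← pol_polar]; exact hvb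
    have orth_b : pol b (g • v + v) = 0 := by
      rw [pol_addr, hb, smul_pol, hva', ← hb, hvb', add_zero]
    have orth_a : pol a (g • v + v) = 0 := by
      have hga : g • (a + b) = a := by
        rw [smul_add', ← hb, hb', add_comm a b, ← add_assoc, ZModModule.add_self, zero_add]
      rw [pol_addr, hva', add_zero]
      conv_lhs => rw [← hga, smul_pol]
      rw [pol_polar, QuadraticMap.polar_add_left, ← pol_polar, ← pol_polar, hva', hvb', add_zero]
    rcases hall _ (hmem v) with e | e | e | e
    · exact e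
    · rw [e, pol_polar, QuadraticMap.polar_comm, ← pol_polar, hpab] at orth_b; exact absurd orth_b one_ne_zero
    · rw [e, hpab] at orth_a; exact absurd orth_a one_ne_zero
    · rw [e, pol_addr, pol_self, hpab, zero_add] at orth_a; exact absurd orth_a one_ne_zero
  rw [eq_neg_of_add_eq_zero_left h0, ZModModule.neg_eq_self]


end Cfsg.Agent.Spor.CoT.Three
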